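import Groth.Agent.BLTorsor.Factor
import Groth.Agent.CAlgH3.RegularLocal

/-!
# The case of the completion along an element of a domain
-/

set_option autoImplicit false
set_option linter.all false

universe u

open CategoryTheory MonoidalCategory CartesianMonoidalCategory MonObj GrpObj AlgebraicGeometry CoactBr
open scoped TensorProduct
open Groth.Agent.Misc15.AffinePoints

namespace Groth.Agent.BLTorsor

noncomputable section

variable {R : Type u} [CommRing R] (r : R) (P : Type u) [CommRing P] [Algebra R P]

/-- `R[1/r] → P[1/r]` over `R`. -/
def awayAlgHom : Localization.Away r →ₐ[R] Localization.Away (algebraMap R P r) :=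
  { Localization.awayMap (algebraMap R P) r with
    commutes' := fun x => by
      show Localization.awayMap (algebraMap R P) r (algebraMap R _ x) = _
      rw [Localization.awayMap, IsLocalization.Away.map, IsLocalization.map_eq]
      exact (IsScalarTower.algebraMap_apply R P _ x).symm }

/-- `P ⊗ R[1/r] → P[1/r]`. -/
def overlapHom : P ⊗[R] Localization.Away r →ₐ[R] Localization.Away (algebraMap R P r) :=
  Algebra.TensorProduct.lift (IsScalarTower.toAlgHom R P _) (awayAlgHom r P) fun _ _ => .all _ _

theorem bijective_overlapHom : Function.Bijective (overlapHom r P) := by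
  have hu : IsUnit ((Algebra.TensorProduct.includeLeftRingHom : P →+* P ⊗[R] Localization.Away r) (algebraMap R P r)) := by
    have : (Algebra.TensorProduct.includeLeftRingHom : P →+* P ⊗[R] Localization.Away r) (algebraMap R P r) =
        (Algebra.TensorProduct.includeRight : Localization.Away r →ₐ[R] P ⊗[R] Localization.Away r)
          (algebraMap R _ r) := by
      rw [AlgHom.commutes]; rfl
    rw [this]
    exact (IsLocalization.Away.algebraMap_isUnit r).map _
  let χ : Localization.Away (algebraMap R P r) →+* P ⊗[R] Localization.Away r :=
    IsLocalization.Away.lift (algebraMap R P r) hu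
  have hχ : ∀ p : P, χ (algebraMap P _ p) = p ⊗ₜ 1 := fun p => IsLocalization.Away.lift_eq _ _ p
  let χa : Localization.Away (algebraMap R P r) →ₐ[R] P ⊗[R] Localization.Away r :=
    { χ with
      commutes' := fun x => by
        show χ (algebraMap R _ x) = _
        rw [IsScalarTower.algebraMap_apply R P (Localization.Away (algebraMap R P r)), hχ]
        rfl }
  have hψp : ∀ p : P, overlapHom r P (p ⊗ₜ 1) = algebraMap P _ p := fun p => by
    simp [overlapHom]
  have h1 : χa.comp (overlapHom r P) = AlgHom.id R _ := by
    refine Algebra.TensorProduct.ext (AlgHom.ext fun p => ?_) (IsLocalization.algHom_ext (Submonoid.powers r) (Subsingleton.elim _ _))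
    show χ (overlapHom r P (p ⊗ₜ 1)) = p ⊗ₜ 1
    rw [hψp, hχ]
  have h2 : (overlapHom r P).toRingHom.comp χ = RingHom.id _ := by
    refine IsLocalization.ringHom_ext (Submonoid.powers (algebraMap R P r)) (RingHom.ext fun p => ?_)
    show overlapHom r P (χ (algebraMap P _ p)) = algebraMap P _ p
    rw [hχ, hψp]
  exact Function.bijective_iff_has_inverse.2 ⟨χ, fun x => AlgHom.congr_fun h1 x, fun x => RingHom.congr_fun h2 x⟩

end

end Groth.Agent.BLTorsor
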