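import Groth.Agent.BLTorsor.Points
import Groth.Prelude.Def_NonAbH2

/-!
# The torsor glued from trivial torsors by a point of the overlap
-/

set_option autoImplicit false
set_option linter.all false

universe u

open CategoryTheory MonoidalCategory CartesianMonoidalCategory MonObj GrpObj AlgebraicGeometry CoactBr
open scoped TensorProduct

namespace Groth.Agent.BLTorsor

noncomputable section

variable {R R' : Type u} [CommRing R] [CommRing R'] [Algebra R R'] {f : R}
  {G X : Over (Spec (CommRingCat.of R))} [GrpObj G]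

/-- Trivialisations of `X` on both parts, differing by `γ` on the overlap. -/
structure Data (R' : Type u) [CommRing R'] [Algebra R R'] (f : R)
    (G X : Over (Spec (CommRingCat.of R))) [GrpObj G] where
  γ : objW R' f ⟶ G
  εU : objU f ⊗ X ⟶ G
  εV : sp R R' ⊗ X ⟶ G
  isoU : IsIso (lift (fst (objU f) X) εU)
  isoV : IsIso (lift (fst (sp R R') X) εV)
  compat : wV R' f ▷ X ≫ εV = (wU R' f ▷ X ≫ εU) * (fst (objW R' f) X ≫ γ)

variable (D : Data R' f G X)

/-- Coordinate of a point on the open part. -/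
def Data.cU {T : Over (Spec (CommRingCat.of R))} (y : T ⟶ X) : objU f ⊗ T ⟶ G := objU f ◁ y ≫ D.εU

/-- Coordinate of a point on the complete part. -/
def Data.cV {T : Over (Spec (CommRingCat.of R))} (y : T ⟶ X) : sp R R' ⊗ T ⟶ G := sp R R' ◁ y ≫ D.εV

theorem Data.cU_comp {T T' : Over (Spec (CommRingCat.of R))} (z : T' ⟶ T) (y : T ⟶ X) :
    D.cU (z ≫ y) = objU f ◁ z ≫ D.cU y := by
  simp [Data.cU]

theorem Data.cV_comp {T T' : Over (Spec (CommRingCat.of R))} (z : T' ⟶ T) (y : T ⟶ X) :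
    D.cV (z ≫ y) = sp R R' ◁ z ≫ D.cV y := by
  simp [Data.cV]

theorem Data.wV_cV {T : Over (Spec (CommRingCat.of R))} (y : T ⟶ X) :
    wV R' f ▷ T ≫ D.cV y = (wU R' f ▷ T ≫ D.cU y) * (fst (objW R' f) T ≫ D.γ) := by
  rw [Data.cV, Data.cU, ← whisker_exchange_assoc, D.compat, MonObj.comp_mul, whisker_exchange_assoc,
    whiskerLeft_fst_assoc]

theorem Data.existsUnique_point {T : Over (Spec (CommRingCat.of R))} (hgl : Glues R' f T X)
    (a : objU f ⊗ T ⟶ G) (b : sp R R' ⊗ T ⟶ G)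
    (hab : wV R' f ▷ T ≫ b = (wU R' f ▷ T ≫ a) * (fst (objW R' f) T ≫ D.γ)) :
    ∃! y : T ⟶ X, D.cU y = a ∧ D.cV y = b := by
  haveI := D.isoU
  haveI := D.isoV
  let A := lift (fst _ _) a ≫ inv (lift (fst (objU f) X) D.εU)
  let B := lift (fst _ _) b ≫ inv (lift (fst (sp R R') X) D.εV)
  have hA1 : A ≫ fst _ _ = fst _ _ := by
    have : inv (lift (fst (objU f) X) D.εU) ≫ fst _ _ = fst _ _ := by
      rw [IsIso.inv_comp_eq, lift_fst]
    rw [Category.assoc, this, lift_fst]
  have hB1 : B ≫ fst _ _ = fst _ _ := by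
    have : inv (lift (fst (sp R R') X) D.εV) ≫ fst _ _ = fst _ _ := by
      rw [IsIso.inv_comp_eq, lift_fst]
    rw [Category.assoc, this, lift_fst]
  have hA2 : lift (fst _ _) (A ≫ snd _ _) = A := by
    ext1 <;> simp [hA1]
  have hB2 : lift (fst _ _) (B ≫ snd _ _) = B := by
    ext1 <;> simp [hB1]
  have hA3 : A ≫ D.εU = a := by
    have : A ≫ lift (fst _ _) D.εU = lift (fst _ _) a := by
      simp only [A, Category.assoc, IsIso.inv_hom_id, Category.comp_id]
    simpa using congrArg (· ≫ snd _ _) this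
  have hB3 : B ≫ D.εV = b := by
    have : B ≫ lift (fst _ _) D.εV = lift (fst _ _) b := by
      simp only [B, Category.assoc, IsIso.inv_hom_id, Category.comp_id]
    simpa using congrArg (· ≫ snd _ _) this
  have hc : ∀ y : T ⟶ X, (D.cU y = a ↔ snd _ T ≫ y = A ≫ snd _ _) ∧
      (D.cV y = b ↔ snd _ T ≫ y = B ≫ snd _ _) := fun y => by
    refine ⟨⟨fun h => ?_, fun h => ?_⟩, ⟨fun h => ?_, fun h => ?_⟩⟩
    · have : objU f ◁ y = A := by
        rw [← cancel_mono (lift (fst (objU f) X) D.εU)]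
        simp only [A, Category.assoc, IsIso.inv_hom_id, Category.comp_id]
        ext1 <;> simp [← h, Data.cU]
      rw [← this, whiskerLeft_snd]
    · rw [Data.cU, show objU f ◁ y = A by rw [← hA2, ← h]; ext1 <;> simp, hA3]
    · have : sp R R' ◁ y = B := by
        rw [← cancel_mono (lift (fst (sp R R') X) D.εV)]
        simp only [B, Category.assoc, IsIso.inv_hom_id, Category.comp_id]
        ext1 <;> simp [← h, Data.cV]
      rw [← this, whiskerLeft_snd]
    · rw [Data.cV, show sp R R' ◁ y = B by rw [← hB2, ← h]; ext1 <;> simp, hB3]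
  have hW : wU R' f ▷ T ≫ A ≫ snd _ _ = wV R' f ▷ T ≫ B ≫ snd _ _ := by
    let p := wU R' f ▷ T ≫ A ≫ snd _ _
    let q := wV R' f ▷ T ≫ B ≫ snd _ _
    let w : objW R' f ⊗ T ⟶ objU f := fst _ _ ≫ wU R' f
    have hp : lift w p ≫ D.εU = wU R' f ▷ T ≫ a := by
      have : lift w p = wU R' f ▷ T ≫ A := by
        rw [← hA2]
        ext1 <;> simp [w, p, hA1]
      rw [this, Category.assoc, hA3]
    have hq : lift w q ≫ D.εU = wU R' f ▷ T ≫ a := by
      have h1 : lift (fst _ _) q ≫ wV R' f ▷ X = wV R' f ▷ T ≫ B := by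
        rw [← hB2]
        ext1 <;> simp [q, hB1]
      have h2 : lift (fst _ _) q ≫ wU R' f ▷ X = lift w q := by
        ext1 <;> simp [w, q]
      have h3 := congrArg (lift (fst _ _) q ≫ ·) D.compat
      simp only [MonObj.comp_mul, reassoc_of% h1, reassoc_of% h2, hB3, lift_fst_assoc] at h3
      rw [hab] at h3
      exact (mul_right_cancel h3).symm
    have heq : lift w p = lift w q := by
      rw [← cancel_mono (lift (fst (objU f) X) D.εU)]
      ext1
      · simp
      · simp [hp, hq]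
    simpa using congrArg (· ≫ snd _ _) heq
  obtain ⟨y, hy, hyu⟩ := hgl _ _ hW
  exact ⟨y, ⟨(hc y).1.2 hy.1, (hc y).2.2 hy.2⟩, fun z hz => hyu z ⟨(hc z).1.1 hz.1, (hc z).2.1 hz.2⟩⟩

theorem Data.point_ext {T : Over (Spec (CommRingCat.of R))} (hgl : Glues R' f T X) {y z : T ⟶ X}
    (h1 : D.cU y = D.cU z) (h2 : D.cV y = D.cV z) : y = z :=
  (D.existsUnique_point hgl _ _ (D.wV_cV z)).unique ⟨h1, h2⟩ ⟨rfl, rfl⟩

variable (hgl : ∀ {T Y : Over (Spec (CommRingCat.of R))}, IsFlatAff T → IsAffine Y.left → Glues R' f T Y)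
  (hG : IsFlatAff G) (hX : IsFlatAff X) (hGa : IsAffine G.left) (hXa : IsAffine X.left)
  (h1 : IsFlatAff (𝟙_ (Over (Spec (CommRingCat.of R)))))
include D hgl hG hX hGa hXa h1

/-- The glued torsor. -/
theorem Data.exists_action : ∃ a : AlgGrp.Action G X, NonAbH1.IsPseudoTorsorSch a := by
  have hGX := hG.tensor hX
  obtain ⟨act, hact, -⟩ := D.existsUnique_point (T := G ⊗ X) (hgl hGX hXa)
    ((snd _ _ ≫ fst G X) * D.cU (snd G X)) ((snd _ _ ≫ fst G X) * D.cV (snd G X)) (by
      rw [MonObj.comp_mul, MonObj.comp_mul, D.wV_cV, ← _root_.mul_assoc, whiskerRight_snd_assoc,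
        whiskerRight_snd_assoc])
  have hU : ∀ {T : Over (Spec (CommRingCat.of R))} (z : T ⟶ G ⊗ X),
      D.cU (z ≫ act) = (snd _ _ ≫ z ≫ fst G X) * D.cU (z ≫ snd G X) := fun z => by
    rw [D.cU_comp, hact.1, MonObj.comp_mul, whiskerLeft_snd_assoc, ← D.cU_comp]
  have hV : ∀ {T : Over (Spec (CommRingCat.of R))} (z : T ⟶ G ⊗ X),
      D.cV (z ≫ act) = (snd _ _ ≫ z ≫ fst G X) * D.cV (z ≫ snd G X) := fun z => by
    rw [D.cV_comp, hact.2, MonObj.comp_mul, whiskerLeft_snd_assoc, ← D.cV_comp]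
  have hone : (η[G] ▷ X) ≫ act = (λ_ X).hom := by
    refine D.point_ext (hgl (h1.tensor hX) hXa) ?_ ?_
    · rw [hU, whiskerRight_fst, whiskerRight_snd, leftUnitor_hom]
      have : snd (objU f) (𝟙_ _ ⊗ X) ≫ fst (𝟙_ _) X ≫ η[G] = 1 := by
        rw [Hom.one_def, ← Category.assoc, toUnit_unique (snd (objU f) (𝟙_ _ ⊗ X) ≫ fst (𝟙_ _) X) (toUnit _)]
      rw [this, _root_.one_mul]
    · rw [hV, whiskerRight_fst, whiskerRight_snd, leftUnitor_hom]
      have : snd (sp R R') (𝟙_ _ ⊗ X) ≫ fst (𝟙_ _) X ≫ η[G] = 1 := by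
        rw [Hom.one_def, ← Category.assoc, toUnit_unique (snd (sp R R') (𝟙_ _ ⊗ X) ≫ fst (𝟙_ _) X) (toUnit _)]
      rw [this, _root_.one_mul]
  have hmul : (μ[G] ▷ X) ≫ act = (α_ G G X).hom ≫ (G ◁ act) ≫ act := by
    refine D.point_ext (hgl ((hG.tensor hG).tensor hX) hXa) ?_ ?_
    · rw [hU, ← Category.assoc (α_ G G X).hom, hU]
      · simp only [Category.assoc, whiskerRight_fst, whiskerRight_snd, whiskerLeft_fst, whiskerLeft_snd,
          associator_hom_fst, MonObj.mul_eq_mul, MonObj.comp_mul]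
        rw [← Category.assoc (α_ G G X).hom (snd G (G ⊗ X)), hU]
        simp only [Category.assoc, associator_hom_snd_fst, associator_hom_snd_snd]
        exact _root_.mul_assoc _ _ _
    · rw [hV, ← Category.assoc (α_ G G X).hom, hV]
      · simp only [Category.assoc, whiskerRight_fst, whiskerRight_snd, whiskerLeft_fst, whiskerLeft_snd,
          associator_hom_fst, MonObj.mul_eq_mul, MonObj.comp_mul]
        rw [← Category.assoc (α_ G G X).hom (snd G (G ⊗ X)), hV]
        simp only [Category.assoc, associator_hom_snd_fst, associator_hom_snd_snd]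
        exact _root_.mul_assoc _ _ _
  refine ⟨⟨act, hone, hmul⟩, ?_⟩
  have hXX := hX.tensor hX
  obtain ⟨δ, hδ, -⟩ := hgl hXX hGa (D.cU (fst X X) * (D.cU (snd X X))⁻¹)
    (D.cV (fst X X) * (D.cV (snd X X))⁻¹) (by
      simp only [MonObj.comp_mul, GrpObj.comp_inv, D.wV_cV]
      group)
  refine ⟨⟨lift δ (snd X X), ?_, ?_⟩⟩
  · ext1
    · rw [Category.assoc, lift_fst, Category.id_comp]
      refine (hgl hGX hGa (snd _ _ ≫ fst G X) (snd _ _ ≫ fst G X) (by
        rw [whiskerRight_snd_assoc, whiskerRight_snd_assoc])).unique ⟨?_, ?_⟩ ⟨rfl, rfl⟩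
      · rw [← whiskerLeft_snd_assoc, hδ.1, MonObj.comp_mul, GrpObj.comp_inv, ← D.cU_comp, ← D.cU_comp,
          lift_fst, lift_snd, hact.1, mul_inv_cancel_right]
      · rw [← whiskerLeft_snd_assoc, hδ.2, MonObj.comp_mul, GrpObj.comp_inv, ← D.cV_comp, ← D.cV_comp,
          lift_fst, lift_snd, hact.2, mul_inv_cancel_right]
    · simp
  · ext1
    · rw [Category.assoc, lift_fst, Category.id_comp]
      refine D.point_ext (hgl hXX hXa) ?_ ?_
      · rw [hU, lift_fst, lift_snd, hδ.1, inv_mul_cancel_right]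
      · rw [hV, lift_fst, lift_snd, hδ.2, inv_mul_cancel_right]
    · simp

end

end Groth.Agent.BLTorsor
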