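import Groth.Agent.BLTorsor.GlueAlg
import Groth.Agent.BLTorsor.Torsor

/-!
# The affine object glued by translation with a point of the overlap
-/

set_option autoImplicit false
set_option linter.all false

universe u

open CategoryTheory MonoidalCategory CartesianMonoidalCategory MonObj GrpObj AlgebraicGeometry CoactBr
open scoped TensorProduct
open Groth.Agent.Misc15.AffinePoints

namespace Groth.Agent.BLTorsor

noncomputable section

variable {R : Type u} [CommRing R]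

theorem isIso_pt {B K : Type u} [CommRing B] [CommRing K] [Algebra R B] [Algebra R K] (φ : B →ₐ[R] K)
    (hφ : Function.Bijective φ) : IsIso (pt φ) := by
  let e := AlgEquiv.ofBijective φ hφ
  refine ⟨pt e.symm.toAlgHom, ?_, ?_⟩
  · rw [← pt_comp, ← pt_id]
    congr 1
    ext x
    exact e.apply_symm_apply x
  · rw [← pt_comp, ← pt_id]
    congr 1
    ext x
    exact e.symm_apply_apply x

theorem pt_ext {B K : Type u} [CommRing B] [CommRing K] [Algebra R B] [Algebra R K] (φ ψ : B →ₐ[R] K)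
    (h : pt φ = pt ψ) : φ = ψ := pt_injective h

theorem exists_algEquiv {C : Type u} [CommRing C] [Algebra R C] {Z : Over (Spec (CommRingCat.of R))}
    (q : sp R C ⟶ Z) [IsIso q] (t t' : Z ⟶ Z) (h1 : t ≫ t' = 𝟙 _) (h2 : t' ≫ t = 𝟙 _) :
    ∃ θ : C ≃ₐ[R] C, pt θ.toAlgHom = q ≫ t ≫ inv q := by
  obtain ⟨a, ha⟩ := pt_surjective (q ≫ t ≫ inv q)
  obtain ⟨b, hb⟩ := pt_surjective (q ≫ t' ≫ inv q)
  refine ⟨AlgEquiv.ofAlgHom a b (pt_ext _ _ ?_) (pt_ext _ _ ?_), ha⟩
  · rw [pt_comp, ha, hb, pt_id]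
    simp [reassoc_of% h1]
  · rw [pt_comp, ha, hb, pt_id]
    simp [reassoc_of% h2]

section

variable {G : Over (Spec (CommRingCat.of R))} [GrpObj G] {W : Over (Spec (CommRingCat.of R))}

/-- Translation on the right by a point of the parameter. -/
def trans (γ : W ⟶ G) : W ⊗ G ⟶ W ⊗ G := lift (fst W G) (snd W G * (fst W G ≫ γ))

theorem trans_trans (γ δ : W ⟶ G) (h : γ * δ = 1) : trans γ ≫ trans δ = 𝟙 _ := by
  ext1
  · simp [trans]
  · rw [Category.assoc, Category.id_comp, trans, trans, lift_snd, MonObj.comp_mul, lift_snd, lift_fst_assoc,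
      _root_.mul_assoc, ← MonObj.comp_mul, h, MonObj.comp_one, _root_.mul_one]

end

theorem isIso_lift_fst {L B A : Type u} [CommRing L] [CommRing B] [CommRing A] [Algebra R L] [Algebra R B]
    [Algebra R A] {G : Over (Spec (CommRingCat.of R))} (e : sp R A ≅ G) [IsIso (Q (R := R) L B)]
    (ξ : A →ₐ[R] L ⊗[R] B) (hξ : Function.Bijective (Algebra.TensorProduct.lift
      (Algebra.TensorProduct.includeLeft : L →ₐ[R] L ⊗[R] B) ξ fun _ _ => .all _ _)) :
    IsIso (lift (fst (sp R L) (sp R B)) (inv (Q L B) ≫ pt ξ ≫ e.hom)) := by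
  haveI := isIso_Q (R := R) L A
  haveI := isIso_pt (R := R) _ hξ
  have h1 : pt (Algebra.TensorProduct.lift (Algebra.TensorProduct.includeLeft : L →ₐ[R] L ⊗[R] B) ξ
      fun _ _ => .all _ _) ≫ Q L A ≫ sp R L ◁ e.hom =
      Q L B ≫ lift (fst (sp R L) (sp R B)) (inv (Q L B) ≫ pt ξ ≫ e.hom) := by
    ext1
    · simp only [Category.assoc, whiskerLeft_fst, lift_fst]
      rw [← pt_comp, Algebra.TensorProduct.lift_comp_includeLeft]
    · simp only [Category.assoc, whiskerLeft_snd, lift_snd_assoc, lift_snd, IsIso.hom_inv_id_assoc]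
      rw [← Category.assoc, ← pt_comp]
      congr 2
      ext a
      simp
  haveI : IsIso (Q L B ≫ lift (fst (sp R L) (sp R B)) (inv (Q L B) ≫ pt ξ ≫ e.hom)) := h1 ▸ inferInstance
  exact IsIso.of_isIso_comp_left (Q L B) _

section

variable {W A : Type u} [CommRing W] [Algebra R W] [CommRing A] [Algebra R A]
  {G : Over (Spec (CommRingCat.of R))} [GrpObj G]

theorem exists_transAlgEquiv (e : sp R A ≅ G) (γ : sp R W ⟶ G) :
    ∃ θ : W ⊗[R] A ≃ₐ[R] W ⊗[R] A, (∀ w : W, θ (w ⊗ₜ 1) = w ⊗ₜ 1) ∧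
      pt (θ.toAlgHom.comp Algebra.TensorProduct.includeRight) ≫ e.hom =
        (pt (Algebra.TensorProduct.includeRight : A →ₐ[R] W ⊗[R] A) ≫ e.hom) *
          (pt (Algebra.TensorProduct.includeLeft : W →ₐ[R] W ⊗[R] A) ≫ γ) := by
  haveI := isIso_Q (R := R) W A
  let q : sp R (W ⊗[R] A) ⟶ sp R W ⊗ G := Q W A ≫ sp R W ◁ e.hom
  have hq1 : q ≫ fst _ _ = pt (Algebra.TensorProduct.includeLeft : W →ₐ[R] W ⊗[R] A) := by
    simp only [q, Category.assoc, whiskerLeft_fst, lift_fst]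
  have hq2 : q ≫ snd _ _ = pt (Algebra.TensorProduct.includeRight : A →ₐ[R] W ⊗[R] A) ≫ e.hom := by
    simp only [q, Category.assoc, whiskerLeft_snd, lift_snd_assoc]
  obtain ⟨θ, hθ⟩ := exists_algEquiv q (trans γ) (trans γ⁻¹) (trans_trans γ γ⁻¹ (mul_inv_cancel γ))
    (trans_trans γ⁻¹ γ (inv_mul_cancel γ))
  refine ⟨θ, fun w => AlgHom.congr_fun (pt_ext (θ.toAlgHom.comp Algebra.TensorProduct.includeLeft)
    (Algebra.TensorProduct.includeLeft : W →ₐ[R] W ⊗[R] A) ?_) w, ?_⟩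
  · rw [pt_comp, hθ, ← hq1]
    simp [trans]
  · rw [pt_comp, hθ, ← hq1, Category.assoc, Category.assoc, Category.assoc, ← hq2]
    simp [trans, MonObj.comp_mul, ← hq2]
    rw [reassoc_of% hq1]

theorem compat_of_equiv {U V B : Type u} [CommRing U] [Algebra R U] [CommRing V] [Algebra R V] [CommRing B]
    [Algebra R B] [IsIso (Q (R := R) U B)] [IsIso (Q (R := R) V B)] (iU : U →ₐ[R] W) (iV : V →ₐ[R] W)
    (e : sp R A ≅ G) (γ : sp R W ⟶ G) (θ : W ⊗[R] A ≃ₐ[R] W ⊗[R] A)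
    (hθ : pt (θ.toAlgHom.comp Algebra.TensorProduct.includeRight) ≫ e.hom =
        (pt (Algebra.TensorProduct.includeRight : A →ₐ[R] W ⊗[R] A) ≫ e.hom) *
          (pt (Algebra.TensorProduct.includeLeft : W →ₐ[R] W ⊗[R] A) ≫ γ))
    (ξU : A →ₐ[R] U ⊗[R] B) (ξV : A →ₐ[R] V ⊗[R] B) (ω : W ⊗[R] B ≃ₐ[R] W ⊗[R] A)
    (h1 : ∀ w : W, ω (w ⊗ₜ 1) = w ⊗ₜ 1)
    (h2 : ∀ a, ω (Algebra.TensorProduct.map iU (AlgHom.id R B) (ξU a)) = 1 ⊗ₜ a)
    (h3 : ∀ a, ω (Algebra.TensorProduct.map iV (AlgHom.id R B) (ξV a)) = θ (1 ⊗ₜ a)) :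
    pt iV ▷ sp R B ≫ inv (Q V B) ≫ pt ξV ≫ e.hom =
      (pt iU ▷ sp R B ≫ inv (Q U B) ≫ pt ξU ≫ e.hom) * (fst (sp R W) (sp R B) ≫ γ) := by
  haveI := isIso_Q (R := R) W B
  haveI : IsIso (pt ω.toAlgHom) := isIso_pt _ ω.bijective
  rw [← cancel_epi (pt ω.toAlgHom ≫ Q W B)]
  have hmap : ∀ {L : Type u} [CommRing L] [Algebra R L] (φ : L →ₐ[R] W),
      Q (R := R) W B ≫ (pt φ ▷ sp R B) = pt (Algebra.TensorProduct.map φ (AlgHom.id R B)) ≫ Q L B := fun φ => by
    rw [pt_map_comp_Q, pt_id, tensorHom_id]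
  simp only [MonObj.comp_mul, Category.assoc, reassoc_of% (hmap iU), reassoc_of% (hmap iV),
    IsIso.hom_inv_id_assoc, lift_fst_assoc]
  simp only [← Category.assoc, ← pt_comp]
  have e2 : ω.toAlgHom.comp ((Algebra.TensorProduct.map iU (AlgHom.id R B)).comp ξU) =
    Algebra.TensorProduct.includeRight := AlgHom.ext h2
  have e3 : ω.toAlgHom.comp ((Algebra.TensorProduct.map iV (AlgHom.id R B)).comp ξV) =
    θ.toAlgHom.comp Algebra.TensorProduct.includeRight := AlgHom.ext h3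
  have e1 : ω.toAlgHom.comp Algebra.TensorProduct.includeLeft = Algebra.TensorProduct.includeLeft :=
    AlgHom.ext h1
  rw [e2, e3, e1, hθ]

end

variable {R' : Type u} [CommRing R'] [Algebra R R'] {f : R}
  {G : Over (Spec (CommRingCat.of R))} [GrpObj G]

/-- Every point of the overlap defines an affine flat finitely presented object with trivialisations on both
parts differing by that point. -/
theorem exists_data (h : EtGlue.IsGlueingPair R R' f) {A : Type u} [CommRing A] [Algebra R A]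
    [Module.Flat R A] [Algebra.FinitePresentation R A] (e : sp R A ≅ G) (γ : objW R' f ⟶ G) :
    ∃ (B : Type u) (_ : CommRing B) (_ : Algebra R B), Module.Flat R B ∧ Algebra.FinitePresentation R B ∧
      ∃ D : Data R' f G (sp R B), D.γ = γ := by
  obtain ⟨θ, hθ1, hθ2⟩ := exists_transAlgEquiv e γ
  obtain ⟨B, _, _, hBf, hBp, ξU, ξV, ωW, hU, hV, hω1, hω2, hω3⟩ := exists_glued h θ hθ1
  haveI := isIso_Q (R := R) (Localization.Away f) B
  haveI := isIso_Q (R := R) R' B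
  exact ⟨B, inferInstance, inferInstance, hBf, hBp,
    ⟨γ, inv (Q (Localization.Away f) B) ≫ pt ξU ≫ e.hom, inv (Q R' B) ≫ pt ξV ≫ e.hom,
      isIso_lift_fst e ξU hU, isIso_lift_fst e ξV hV,
      compat_of_equiv (incU (R' := R') f) (incV (R' := R') f) e γ θ hθ2 ξU ξV ωW hω1 hω2 hω3⟩, rfl⟩

end

end Groth.Agent.BLTorsor
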