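import Groth.Agent.BLTorsor.Construct
import Mathlib.RingTheory.Localization.BaseChange
import Mathlib.AlgebraicGeometry.Sites.Fpqc

/-!
# Factorization of points of the overlap from triviality of torsors
-/

set_option autoImplicit false
set_option linter.all false

universe u

open CategoryTheory MonoidalCategory CartesianMonoidalCategory MonObj GrpObj AlgebraicGeometry CoactBr
open scoped TensorProduct
open Groth.Agent.Misc15.AffinePoints

namespace Groth.Agent.BLTorsor

noncomputable section

variable {R : Type u} [CommRing R]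

theorem isFlatAff_unit : IsFlatAff (𝟙_ (Over (Spec (CommRingCat.of R)))) :=
  ⟨R, inferInstance, inferInstance, inferInstance, ⟨Over.isoMk (Iso.refl _) (by
    simp only [Iso.refl_hom, Category.id_comp]
    exact (Spec.map_id _).symm)⟩⟩

theorem flat_of_flat_hom {A : Type u} [CommRing A] [Algebra R A] (h : Flat (sp R A).hom) : Module.Flat R A := by
  change Flat (Spec.map (CommRingCat.ofHom (algebraMap R A))) at h
  rw [Flat.SpecMap_iff] at h
  exact RingHom.flat_algebraMap_iff.1 h

theorem finitePresentation_of_hom {A : Type u} [CommRing A] [Algebra R A]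
    (h : LocallyOfFinitePresentation (sp R A).hom) : Algebra.FinitePresentation R A := by
  change LocallyOfFinitePresentation (Spec.map (CommRingCat.ofHom (algebraMap R A))) at h
  rw [LocallyOfFinitePresentation.SpecMap_iff] at h
  exact RingHom.finitePresentation_algebraMap.1 h

theorem mem_fppf_singleton {A : Type u} [CommRing A] [Algebra R A] [Module.Flat R A]
    [Algebra.FinitePresentation R A] (hs : Function.Surjective (sp R A).hom.base) :
    Presieve.singleton (sp R A).hom ∈ Scheme.fppfPrecoverage (Spec (CommRingCat.of R)) := by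
  rw [Scheme.fppfPrecoverage, Scheme.singleton_mem_precoverage_iff]
  refine ⟨hs, ?_, ?_⟩
  · change Flat (Spec.map (CommRingCat.ofHom (algebraMap R A)))
    rw [Flat.SpecMap_iff]
    exact RingHom.flat_algebraMap_iff.2 inferInstance
  · change LocallyOfFinitePresentation (Spec.map (CommRingCat.ofHom (algebraMap R A)))
    rw [LocallyOfFinitePresentation.SpecMap_iff]
    exact RingHom.finitePresentation_algebraMap.2 inferInstance

variable {R' : Type u} [CommRing R'] [Algebra R R'] {f : R} {G X : Over (Spec (CommRingCat.of R))} [GrpObj G]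

/-- The points of the torsor on the open part. -/
def Data.secU (D : Data R' f G X) (x : objU f ⟶ G) : objU f ⟶ X :=
  haveI := D.isoU
  lift (𝟙 (objU f)) x ≫ inv (lift (fst (objU f) X) D.εU) ≫ snd _ _

/-- The points of the torsor on the complete part. -/
def Data.secV (D : Data R' f G X) (x : sp R R' ⟶ G) : sp R R' ⟶ X :=
  haveI := D.isoV
  lift (𝟙 (sp R R')) x ≫ inv (lift (fst (sp R R') X) D.εV) ≫ snd _ _

theorem Data.compat_point (D : Data R' f G X) (σ : 𝟙_ (Over (Spec (CommRingCat.of R))) ⟶ X) :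
    wV R' f ≫ lift (𝟙 _) (toUnit _ ≫ σ) ≫ D.εV =
      (wU R' f ≫ lift (𝟙 _) (toUnit _ ≫ σ) ≫ D.εU) * D.γ := by
  have h := congrArg (lift (𝟙 (objW R' f)) (toUnit _ ≫ σ) ≫ ·) D.compat
  simp only [MonObj.comp_mul, lift_fst_assoc, Category.id_comp] at h
  have h1 : lift (𝟙 (objW R' f)) (toUnit _ ≫ σ) ≫ wV R' f ▷ X = wV R' f ≫ lift (𝟙 _) (toUnit _ ≫ σ) := by
    ext1 <;> simp
  have h2 : lift (𝟙 (objW R' f)) (toUnit _ ≫ σ) ≫ wU R' f ▷ X = wU R' f ≫ lift (𝟙 _) (toUnit _ ≫ σ) := by
    ext1 <;> simp
  rw [reassoc_of% h1, reassoc_of% h2] at h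
  exact h

/-- Points of the overlap factor when the torsors with a section over the open part are trivial. -/
theorem exists_factor (h : EtGlue.IsGlueingPair R R' f)
    (hcov : ∀ p : PrimeSpectrum R,
      p ∈ Set.range (PrimeSpectrum.comap (algebraMap R (Localization.Away f))) ∨
        p ∈ Set.range (PrimeSpectrum.comap (algebraMap R R')))
    (hGa : IsAffineHom G.hom) (hGs : Smooth G.hom)
    (hGS : ∀ (X : Over (Spec (CommRingCat.of R))) (a : AlgGrp.Action G X),
      NonAbH1.IsTorsorFor Scheme.fppfPrecoverage a → Nonempty (objU f ⟶ X) →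
      Nonempty (𝟙_ (Over (Spec (CommRingCat.of R))) ⟶ X))
    (γ : objW R' f ⟶ G) :
    ∃ (x₁ : objU f ⟶ G) (x₂ : sp R R' ⟶ G), γ = (wV R' f ≫ x₂) * (wU R' f ≫ x₁) := by
  haveI : IsAffine G.left := isAffine_of_isAffineHom G.hom
  obtain ⟨A, _, _, ⟨e⟩⟩ := exists_sp G
  have he : (sp R A).hom = e.hom.left ≫ G.hom := (Over.w e.hom).symm
  haveI : IsIso e.hom.left := (inferInstance : IsIso ((Over.forget _).map e.hom))
  haveI : Flat G.hom := inferInstance
  haveI : LocallyOfFinitePresentation G.hom := inferInstance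
  haveI : Module.Flat R A := flat_of_flat_hom (by rw [he]; infer_instance)
  haveI : Algebra.FinitePresentation R A := finitePresentation_of_hom (by rw [he]; infer_instance)
  obtain ⟨B, _, _, _, _, D, hD⟩ := exists_data h e γ⁻¹
  obtain ⟨a, ha⟩ := D.exists_action (fun hT hY => glues h hT hY) ⟨A, inferInstance, inferInstance, inferInstance, ⟨e⟩⟩
    ⟨B, inferInstance, inferInstance, inferInstance, ⟨Iso.refl _⟩⟩ inferInstance (isAffine_Spec _) isFlatAff_unit
  have hU : objU f ⟶ sp R B := D.secU 1
  have hV : sp R R' ⟶ sp R B := D.secV 1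
  have hsurj : Function.Surjective (sp R B).hom.base := fun p => by
    rcases hcov p with ⟨q, hq⟩ | ⟨q, hq⟩
    · refine ⟨hU.left.base q, ?_⟩
      rw [← hq]
      exact congrArg (fun z => z.base q) (Over.w hU)
    · refine ⟨hV.left.base q, ?_⟩
      rw [← hq]
      exact congrArg (fun z => z.base q) (Over.w hV)
  have htors : NonAbH1.IsTorsorFor Scheme.fppfPrecoverage a :=
    ⟨ha, Presieve.singleton (sp R B).hom, mem_fppf_singleton hsurj, by
      rintro S' g ⟨⟩
      exact ⟨𝟙 _, Category.id_comp _⟩⟩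
  obtain ⟨σ⟩ := hGS _ a htors ⟨hU⟩
  refine ⟨lift (𝟙 _) (toUnit _ ≫ σ) ≫ D.εU, (lift (𝟙 _) (toUnit _ ≫ σ) ≫ D.εV)⁻¹, ?_⟩
  have hc := D.compat_point σ
  rw [hD] at hc
  rw [GrpObj.comp_inv, hc]
  group

end

end Groth.Agent.BLTorsor
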