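import Groth.Agent.HenselLib.BLAlg
import Groth.Agent.FSchLib.Completion
import Mathlib.RingTheory.AdicCompletion.AsTensorProduct
import Mathlib.RingTheory.Flat.TorsionFree

/-!
# Glueing elements of flat algebras along a Beauville–Laszlo pair
-/

set_option autoImplicit false
set_option linter.all false

universe u

open TensorProduct Function Groth.Agent.HenselLib

namespace Groth.Agent.BLTorsor

variable {R R' : Type u} [CommRing R] [CommRing R'] [Algebra R R'] {f : R}

/-- The completion of a Noetherian ring along a regular element. -/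
theorem isGlueingPair_completion [IsNoetherianRing R] (hf : f ∈ nonZeroDivisors R) :
    EtGlue.IsGlueingPair R (AdicCompletion (Ideal.span {f}) R) f := by
  set I := Ideal.span {f}
  have hI : I.FG := ⟨{f}, by simp [I]⟩
  have hker : ∀ (n : ℕ) (x : AdicCompletion I R), AdicCompletion.evalₐ I n x = 0 →
      ∃ x', x = f ^ n • x' := fun n x hx => by
    have : x ∈ RingHom.ker (AdicCompletion.evalₐ I n).toRingHom := hx
    rw [FSchLib.ker_evalₐ I hI n, ← Ideal.map_pow, Ideal.span_singleton_pow, Ideal.map_span,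
      Set.image_singleton, Ideal.mem_span_singleton'] at this
    obtain ⟨x', rfl⟩ := this
    exact ⟨x', by rw [Algebra.smul_def, mul_comm]⟩
  refine BL.isGlueingPair_of (BL.quotPowBijective_of _ (fun n x => ?_) fun n r x hr => ?_) ?_ ?_
  · obtain ⟨r, hr⟩ := Ideal.Quotient.mk_surjective (AdicCompletion.evalₐ I n x)
    obtain ⟨x', hx'⟩ := hker n (x - algebraMap R _ r) (by
      rw [map_sub, AlgHom.commutes, ← hr]
      exact sub_self _)
    exact ⟨r, x', by rw [← hx']; abel⟩
  · have h := congrArg (AdicCompletion.evalₐ I n) hr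
    rw [AlgHom.commutes, map_smul, Algebra.smul_def, Ideal.Quotient.algebraMap_eq,
      Ideal.Quotient.eq_zero_iff_mem.2 (show f ^ n ∈ I ^ n from Ideal.pow_mem_pow (Ideal.mem_span_singleton_self f) n),
      zero_mul, Ideal.Quotient.eq_zero_iff_mem, Ideal.span_singleton_pow, Ideal.mem_span_singleton'] at h
    obtain ⟨s, hs⟩ := h
    exact ⟨s, by rw [← hs, mul_comm]⟩
  · rintro r ⟨n, hn⟩ -
    exact (mem_nonZeroDivisors_iff.1 (pow_mem hf n)).1 r hn
  · rintro x ⟨n, hn⟩
    refine ⟨0, ⟨0, by simp⟩, ?_⟩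
    rw [map_zero]
    have hreg : IsSMulRegular (AdicCompletion I R) (f ^ n) :=
      Module.Flat.isSMulRegular_of_nonZeroDivisors (pow_mem hf n)
    exact (hreg (show f ^ n • x = f ^ n • (0 : AdicCompletion I R) by rw [hn, smul_zero])).symm

variable (f)

/-- Inclusion of the localization in the common overlap. -/
noncomputable abbrev incU : Localization.Away f →ₐ[R] R' ⊗[R] Localization.Away f :=
  Algebra.TensorProduct.includeRight

/-- Inclusion of `R'` in the common overlap. -/
noncomputable abbrev incV : R' →ₐ[R] R' ⊗[R] Localization.Away f :=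
  Algebra.TensorProduct.includeLeft

variable (C : Type u) [CommRing C] [Algebra R C]

/-- `R_f ⊗ C → W ⊗ C`. -/
noncomputable abbrev incUC : Localization.Away f ⊗[R] C →ₐ[R] (R' ⊗[R] Localization.Away f) ⊗[R] C :=
  Algebra.TensorProduct.map (incU f) (AlgHom.id R C)

/-- `R' ⊗ C → W ⊗ C`. -/
noncomputable abbrev incVC : R' ⊗[R] C →ₐ[R] (R' ⊗[R] Localization.Away f) ⊗[R] C :=
  Algebra.TensorProduct.map (incV f) (AlgHom.id R C)

/-- Reordering the overlap. -/
noncomputable def swapW : (R' ⊗[R] Localization.Away f) ⊗[R] C ≃ₗ[R] Localization.Away f ⊗[R] (R' ⊗[R] C) :=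
  TensorProduct.congr (TensorProduct.comm R R' (Localization.Away f)) (LinearEquiv.refl R C) ≪≫ₗ
    TensorProduct.assoc R (Localization.Away f) R' C

theorem swapW_incVC (z : R' ⊗[R] C) : swapW f C (incVC f C z) = 1 ⊗ₜ z := by
  induction z with
  | zero => simp
  | add a b ha hb => simp only [map_add, ha, hb, tmul_add]
  | tmul s c => simp [swapW]

theorem exists_pow_smul (x : Localization.Away f ⊗[R] C) : ∃ (n : ℕ) (m : C), f ^ n • x = 1 ⊗ₜ m := by
  obtain ⟨⟨m, ⟨_, n, rfl⟩⟩, h⟩ :=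
    IsLocalizedModule.surj (Submonoid.powers f) (TensorProduct.mk R (Localization.Away f) C 1) x
  exact ⟨n, m, h⟩

theorem one_tmul_eq_zero_iff (m : C) :
    ((1 : Localization.Away f) ⊗ₜ[R] m : Localization.Away f ⊗[R] C) = 0 ↔ BL.IsTors f m :=
  BL.tors_iff_tmul_eq_zero m

theorem isTors_of_incVC_eq_zero (z : R' ⊗[R] C) (h : incVC f C z = 0) : BL.IsTors f z := by
  refine (BL.tors_iff_tmul_eq_zero z).1 ?_
  rw [← swapW_incVC, h, map_zero]

variable {f} (h : EtGlue.IsGlueingPair R R' f) [Module.Flat R C]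
include h

theorem eq_zero_of_tmul (m : C) (h1 : ((1 : Localization.Away f) ⊗ₜ[R] m : Localization.Away f ⊗[R] C) = 0)
    (h2 : ((1 : R') ⊗ₜ[R] m : R' ⊗[R] C) = 0) : m = 0 :=
  BL.injective_of_flat h C m h2 ((BL.tors_iff_tmul_eq_zero m).1 h1)

/-- Elements of a flat algebra glue. -/
theorem existsUnique_glue_elt (x : Localization.Away f ⊗[R] C) (y : R' ⊗[R] C)
    (e : incUC f C x = incVC f C y) :
    ∃! m : C, (1 : Localization.Away f) ⊗ₜ[R] m = x ∧ (1 : R') ⊗ₜ[R] m = y := by
  have huniq : ∀ a b : C, ((1 : Localization.Away f) ⊗ₜ[R] a = x ∧ (1 : R') ⊗ₜ[R] a = y) →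
      ((1 : Localization.Away f) ⊗ₜ[R] b = x ∧ (1 : R') ⊗ₜ[R] b = y) → a = b := fun a b ha hb =>
    sub_eq_zero.1 (eq_zero_of_tmul C h _ (by rw [tmul_sub, ha.1, hb.1, sub_self])
      (by rw [tmul_sub, ha.2, hb.2, sub_self]))
  obtain ⟨n, m, hm⟩ := exists_pow_smul f C x
  have h0 : incVC f C (f ^ n • y - 1 ⊗ₜ m) = 0 := by
    rw [map_sub, map_smul, ← e, ← map_smul, hm]
    simp [incUC, incVC, incU, incV, Algebra.TensorProduct.one_def]
  obtain ⟨a, ha⟩ := isTors_of_incVC_eq_zero f C _ h0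
  rw [smul_sub, sub_eq_zero, smul_smul, ← pow_add, ← tmul_smul] at ha
  obtain ⟨μ, hμ, b, hb⟩ := BL.exists_glue h.1 (BL.torsSurj_of_pair C h) y (f ^ a • m) (a + n) ha
  refine ⟨μ, ⟨?_, hμ⟩, fun z hz => huniq z μ hz ⟨?_, hμ⟩⟩
  all_goals
    have hu : ∀ k : ℕ, IsSMulRegular (Localization.Away f ⊗[R] C) (f ^ k) := fun k u v huv =>
      ((Module.End.isUnit_iff _).1 (IsLocalizedModule.map_units
        (TensorProduct.mk R (Localization.Away f) C 1) (⟨f ^ k, k, rfl⟩ : Submonoid.powers f))).1 huv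
    refine hu (b + a + n) ?_
    show f ^ (b + a + n) • ((1 : Localization.Away f) ⊗ₜ[R] μ) = f ^ (b + a + n) • x
    rw [← tmul_smul, show f ^ (b + a + n) • μ = f ^ b • (f ^ (a + n) • μ) by rw [smul_smul, ← pow_add, add_assoc],
      hb, tmul_smul, tmul_smul, ← hm, smul_smul, smul_smul, ← pow_add, ← pow_add, add_assoc]

/-- Algebra maps into a flat algebra glue. -/
theorem existsUnique_glue_algHom {B : Type u} [CommRing B] [Algebra R B]
    (α : B →ₐ[R] Localization.Away f ⊗[R] C) (β : B →ₐ[R] R' ⊗[R] C)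
    (e : (incUC f C).comp α = (incVC f C).comp β) :
    ∃! γ : B →ₐ[R] C, (Algebra.TensorProduct.includeRight.comp γ = α) ∧
      (Algebra.TensorProduct.includeRight.comp γ = β) := by
  choose γ hγ hγu using fun b => existsUnique_glue_elt C h (α b) (β b) (AlgHom.congr_fun e b)
  have key : ∀ b m, (1 : Localization.Away f) ⊗ₜ[R] m = α b → (1 : R') ⊗ₜ[R] m = β b → γ b = m :=
    fun b m h1 h2 => (hγu b m ⟨h1, h2⟩).symm
  let γ' : B →ₐ[R] C :=
    { toFun := γ
      map_one' := key _ _ (by rw [map_one]; rfl) (by rw [map_one]; rfl)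
      map_mul' := fun a b => key _ _
        (by rw [map_mul, ← (hγ a).1, ← (hγ b).1, Algebra.TensorProduct.tmul_mul_tmul, one_mul])
        (by rw [map_mul, ← (hγ a).2, ← (hγ b).2, Algebra.TensorProduct.tmul_mul_tmul, one_mul])
      map_zero' := key _ _ (by rw [map_zero, tmul_zero]) (by rw [map_zero, tmul_zero])
      map_add' := fun a b => key _ _ (by rw [map_add, tmul_add, (hγ a).1, (hγ b).1])
        (by rw [map_add, tmul_add, (hγ a).2, (hγ b).2])
      commutes' := fun r => key _ _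
        (by rw [AlgHom.commutes]; exact (Algebra.TensorProduct.includeRight.commutes r))
        (by rw [AlgHom.commutes]; exact (Algebra.TensorProduct.includeRight.commutes r)) }
  refine ⟨γ', ⟨AlgHom.ext fun b => (hγ b).1, AlgHom.ext fun b => (hγ b).2⟩, fun δ hδ => AlgHom.ext fun b => ?_⟩
  exact hγu b _ ⟨AlgHom.congr_fun hδ.1 b, AlgHom.congr_fun hδ.2 b⟩

end Groth.Agent.BLTorsor
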