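import Groth.Agent.BLTorsor.Glue
import Mathlib.RingTheory.Localization.BaseChange
import Mathlib.RingTheory.FinitePresentation

/-!
# The algebra glued by an automorphism of the overlap
-/

set_option autoImplicit false
set_option linter.all false

universe u

open TensorProduct Function Groth.Agent.HenselLib Algebra.TensorProduct

namespace Groth.Agent.BLTorsor

set_option synthInstance.maxHeartbeats 200000
set_option maxHeartbeats 1000000

noncomputable section

variable {R R' : Type u} [CommRing R] [CommRing R'] [Algebra R R'] {f : R}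
  {A : Type u} [CommRing A] [Algebra R A]

theorem assoc_incUC (x : Localization.Away f ⊗[R] A) :
    Algebra.TensorProduct.assoc R R R R' (Localization.Away f) A (incUC f A x) = 1 ⊗ₜ x := by
  induction x with
  | zero => simp
  | add a b ha hb => simp only [map_add, ha, hb, tmul_add]
  | tmul s a => simp

theorem incVC_tmul (s : R') (x : R' ⊗[R] A) :
    incVC f A (s • x) = ((s ⊗ₜ 1) ⊗ₜ 1) * incVC f A x := by
  rw [Algebra.smul_def, map_mul]
  rfl

variable {B : Type u} [CommRing B] [Algebra R B]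

/-- The map of overlaps induced by an isomorphism of open parts. -/
def overlapEquiv (e : Localization.Away f ⊗[R] B ≃ₐ[R] Localization.Away f ⊗[R] A) :
    (R' ⊗[R] Localization.Away f) ⊗[R] B ≃ₐ[R] (R' ⊗[R] Localization.Away f) ⊗[R] A :=
  ((Algebra.TensorProduct.assoc R R R R' (Localization.Away f) B).trans
    (Algebra.TensorProduct.congr AlgEquiv.refl e)).trans
      (Algebra.TensorProduct.assoc R R R R' (Localization.Away f) A).symm

theorem overlapEquiv_incUC (e : Localization.Away f ⊗[R] B ≃ₐ[R] Localization.Away f ⊗[R] A)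
    (z : Localization.Away f ⊗[R] B) :
    overlapEquiv (R' := R') e (incUC f B z) = incUC f A (e z) := by
  rw [overlapEquiv, AlgEquiv.trans_apply, AlgEquiv.trans_apply, assoc_incUC, AlgEquiv.symm_apply_eq,
    assoc_incUC]
  simp

theorem overlapEquiv_tmul (e : Localization.Away f ⊗[R] B ≃ₐ[R] Localization.Away f ⊗[R] A)
    (he : ∀ l, e (l ⊗ₜ 1) = l ⊗ₜ 1) (w : R' ⊗[R] Localization.Away f) :
    overlapEquiv e (w ⊗ₜ 1) = w ⊗ₜ 1 := by
  induction w with
  | zero => simp
  | add a b ha hb => simp only [add_tmul, map_add, ha, hb]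
  | tmul s l =>
    rw [overlapEquiv, AlgEquiv.trans_apply, AlgEquiv.trans_apply, AlgEquiv.symm_apply_eq]
    simp [he]

/-- The data read off the two local descriptions of a glued algebra. -/
theorem exists_equiv_data
    (θ : (R' ⊗[R] Localization.Away f) ⊗[R] A ≃ₐ[R] (R' ⊗[R] Localization.Away f) ⊗[R] A)
    (hθ : ∀ w : R' ⊗[R] Localization.Away f, θ (w ⊗ₜ 1) = w ⊗ₜ 1)
    (eU : Localization.Away f ⊗[R] B ≃ₐ[Localization.Away f] Localization.Away f ⊗[R] A)
    (eV : R' ⊗[R] B ≃ₐ[R'] R' ⊗[R] A)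
    (hb : ∀ b : B, θ (incVC f A (eV (1 ⊗ₜ b))) = incUC f A (eU (1 ⊗ₜ b))) :
    ∃ (ξU : A →ₐ[R] Localization.Away f ⊗[R] B) (ξV : A →ₐ[R] R' ⊗[R] B)
        (ωW : (R' ⊗[R] Localization.Away f) ⊗[R] B ≃ₐ[R] (R' ⊗[R] Localization.Away f) ⊗[R] A),
        Bijective (Algebra.TensorProduct.lift
          (includeLeft : Localization.Away f →ₐ[R] Localization.Away f ⊗[R] B) ξU fun _ _ => .all _ _) ∧
        Bijective (Algebra.TensorProduct.lift
          (includeLeft : R' →ₐ[R] R' ⊗[R] B) ξV fun _ _ => .all _ _) ∧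
        (∀ w, ωW (w ⊗ₜ 1) = w ⊗ₜ 1) ∧
        (∀ a, ωW (incUC f B (ξU a)) = 1 ⊗ₜ a) ∧
        (∀ a, ωW (incVC f B (ξV a)) = θ (1 ⊗ₜ a)) := by
  let ωW := overlapEquiv (R' := R') (eU.restrictScalars R)
  refine ⟨(eU.symm.toAlgHom.restrictScalars R).comp includeRight,
    (eV.symm.toAlgHom.restrictScalars R).comp includeRight, ωW, ?_, ?_,
    fun w => overlapEquiv_tmul _ eU.commutes w, fun a => ?_, fun a => ?_⟩
  · have : (Algebra.TensorProduct.lift (includeLeft : Localization.Away f →ₐ[R] Localization.Away f ⊗[R] B)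
        ((eU.symm.toAlgHom.restrictScalars R).comp includeRight) fun _ _ => .all _ _) =
        eU.symm.toAlgHom.restrictScalars R := by
      refine Algebra.TensorProduct.ext (AlgHom.ext fun s => ?_) (AlgHom.ext fun a => by simp)
      simp [Algebra.TensorProduct.one_def]
      exact (eU.symm.commutes s).symm
    rw [this]
    exact eU.symm.bijective
  · have : (Algebra.TensorProduct.lift (includeLeft : R' →ₐ[R] R' ⊗[R] B)
        ((eV.symm.toAlgHom.restrictScalars R).comp includeRight) fun _ _ => .all _ _) =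
        eV.symm.toAlgHom.restrictScalars R := by
      refine Algebra.TensorProduct.ext (AlgHom.ext fun s => ?_) (AlgHom.ext fun a => by simp)
      simp [Algebra.TensorProduct.one_def]
      exact (eV.symm.commutes s).symm
    rw [this]
    exact eV.symm.bijective
  · show ωW (incUC f B (eU.symm (1 ⊗ₜ a))) = _
    rw [overlapEquiv_incUC]
    simp [Algebra.TensorProduct.one_def]
  · have hall : ∀ z, ωW (incVC f B z) = θ (incVC f A (eV z)) := fun z => by
      induction z with
      | zero => simp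
      | add a b ha hb => simp only [map_add, ha, hb]
      | tmul s b =>
        have h1 : s ⊗ₜ b = s • ((1 : R') ⊗ₜ[R] b) := by simp [TensorProduct.smul_tmul']
        rw [h1, incVC_tmul, map_smul eV, incVC_tmul, map_mul, map_mul, hθ, hb]
        congr 1
        · exact overlapEquiv_tmul _ eU.commutes _
    show ωW (incVC f B (eV.symm (1 ⊗ₜ a))) = _
    rw [hall, AlgEquiv.apply_symm_apply]
    simp [Algebra.TensorProduct.one_def]

/-- The glued algebra. -/
theorem exists_glued (h : EtGlue.IsGlueingPair R R' f) [Module.Flat R A] [Algebra.FinitePresentation R A]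
    (θ : (R' ⊗[R] Localization.Away f) ⊗[R] A ≃ₐ[R] (R' ⊗[R] Localization.Away f) ⊗[R] A)
    (hθ : ∀ w : R' ⊗[R] Localization.Away f, θ (w ⊗ₜ 1) = w ⊗ₜ 1) :
    ∃ (B : Type u) (_ : CommRing B) (_ : Algebra R B), Module.Flat R B ∧ Algebra.FinitePresentation R B ∧
      ∃ (ξU : A →ₐ[R] Localization.Away f ⊗[R] B) (ξV : A →ₐ[R] R' ⊗[R] B)
        (ωW : (R' ⊗[R] Localization.Away f) ⊗[R] B ≃ₐ[R] (R' ⊗[R] Localization.Away f) ⊗[R] A),
        Bijective (Algebra.TensorProduct.lift
          (includeLeft : Localization.Away f →ₐ[R] Localization.Away f ⊗[R] B) ξU fun _ _ => .all _ _) ∧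
        Bijective (Algebra.TensorProduct.lift
          (includeLeft : R' →ₐ[R] R' ⊗[R] B) ξV fun _ _ => .all _ _) ∧
        (∀ w, ωW (w ⊗ₜ 1) = w ⊗ₜ 1) ∧
        (∀ a, ωW (incUC f B (ξU a)) = 1 ⊗ₜ a) ∧
        (∀ a, ωW (incVC f B (ξV a)) = θ (1 ⊗ₜ a)) := by
  let L := Localization.Away f
  let φ1 : (R' ⊗[R] A) × (L ⊗[R] A) →ₐ[R] (R' ⊗[R] L) ⊗[R] A :=
    (θ.toAlgHom.comp (incVC f A)).comp (AlgHom.fst R _ _)
  let φ2 : (R' ⊗[R] A) × (L ⊗[R] A) →ₐ[R] (R' ⊗[R] L) ⊗[R] A :=
    (incUC f A).comp (AlgHom.snd R _ _)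
  let B := AlgHom.equalizer φ1 φ2
  let bV : B →ₐ[R] R' ⊗[R] A := (AlgHom.fst R _ _).comp B.val
  let bU : B →ₐ[R] L ⊗[R] A := (AlgHom.snd R _ _).comp B.val
  let σ := Algebra.TensorProduct.assoc R R R R' L A
  let η : R' ⊗[R] A →ₗ[R'] R' ⊗[R] (L ⊗[R] A) :=
    { toFun := fun x => σ (θ (incVC f A x))
      map_add' := fun x y => by rw [map_add, map_add, map_add]
      map_smul' := fun s x => by
        simp only [RingHom.id_apply]
        refine Eq.trans ?_ (Algebra.smul_def s (σ (θ (incVC f A x)))).symm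
        rw [incVC_tmul, map_mul, hθ, map_mul]
        congr 1 }
  have hmem : ∀ z : (R' ⊗[R] A) × (L ⊗[R] A), z ∈ BL.glued η ↔ z ∈ B := fun z => by
    rw [BL.mem_glued]
    show σ (θ (incVC f A z.1)) = _ ↔ θ (incVC f A z.1) = incUC f A z.2
    rw [← assoc_incUC]
    exact σ.injective.eq_iff
  let eB : B ≃ₗ[R] BL.glued η :=
    { toFun := fun b => ⟨b.1, (hmem _).2 b.2⟩
      invFun := fun b => ⟨b.1, (hmem _).1 b.2⟩
      map_add' := fun _ _ => rfl
      map_smul' := fun _ _ => rfl
      left_inv := fun _ => rfl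
      right_inv := fun _ => rfl }
  have hM₁ : Bijective fun x : L ⊗[R] A => f • x := by
    have := (Module.End.isUnit_iff _).1 (IsLocalizedModule.map_units
      (TensorProduct.mk R L A 1) (⟨f, 1, pow_one f⟩ : Submonoid.powers f))
    exact this
  have hker : ∀ x, η x = 0 → BL.IsTors f x := fun x hx =>
    isTors_of_incVC_eq_zero f A x (θ.injective ((σ.injective (hx.trans (map_zero σ).symm)).trans (map_zero θ).symm))
  have hsurj : ∀ z, ∃ (n : ℕ) (x : R' ⊗[R] A), η x = f ^ n • z := fun z => by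
    obtain ⟨n, x, hx⟩ := exists_pow_smul f (R' ⊗[R] A) (swapW f A (θ.symm (σ.symm z)))
    refine ⟨n, x, ?_⟩
    have h1 : incVC f A x = f ^ n • θ.symm (σ.symm z) := (swapW f A).injective (by
      rw [swapW_incVC, map_smul, hx])
    show σ (θ (incVC f A x)) = _
    rw [h1, map_smul, map_smul, AlgEquiv.apply_symm_apply, AlgEquiv.apply_symm_apply]
  -- the open part
  haveI hloc := BL.isLocalizedModule_gluedSnd η hM₁ hker hsurj
  haveI hlocB : IsLocalizedModule (Submonoid.powers f) bU.toLinearMap := by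
    have : bU.toLinearMap = (BL.gluedSnd η).comp eB.toLinearMap := rfl
    rw [this]
    exact IsLocalizedModule.of_linearEquiv_right (Submonoid.powers f) (BL.gluedSnd η) eB
  have hbc := IsLocalizedModule.isBaseChange (Submonoid.powers f) L bU.toLinearMap
  let ωU : L ⊗[R] B →ₐ[L] L ⊗[R] A :=
    Algebra.TensorProduct.lift (Algebra.ofId L _) bU fun _ _ => .all _ _
  have hωU : Bijective ωU := by
    have : (ωU : L ⊗[R] B → L ⊗[R] A) = hbc.equiv := funext fun z => by
      induction z with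
      | zero => simp
      | add a b ha hb => simp only [map_add, ha, hb]
      | tmul s b =>
        simp [ωU, IsBaseChange.equiv_tmul]
        exact (Algebra.smul_def s (bU b)).symm
    rw [this]
    exact hbc.equiv.bijective
  let eU : L ⊗[R] B ≃ₐ[L] L ⊗[R] A := AlgEquiv.ofBijective ωU hωU
  -- the complete part
  let ωV : R' ⊗[R] B →ₐ[R'] R' ⊗[R] A :=
    Algebra.TensorProduct.lift (Algebra.ofId R' _) bV fun _ _ => .all _ _
  have hωV : Bijective ωV := by
    have : (ωV : R' ⊗[R] B → R' ⊗[R] A) =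
        (BL.gluedFst η).liftBaseChange R' ∘ (TensorProduct.congr (LinearEquiv.refl R R') eB) := funext fun z => by
      induction z with
      | zero => simp
      | add a b ha hb => simp only [comp_apply, map_add, ha, hb]
      | tmul s b =>
        simp [ωV, Algebra.smul_def]
        rfl
    rw [this]
    exact Bijective.comp ⟨BL.injective_liftBaseChange_gluedFst η hM₁ hker hsurj h,
      BL.surjective_liftBaseChange_gluedFst η hM₁ hsurj h⟩ (LinearEquiv.bijective _)
  let eV : R' ⊗[R] B ≃ₐ[R'] R' ⊗[R] A := AlgEquiv.ofBijective ωV hωV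
  haveI : Module.Flat L (L ⊗[R] B) := Module.Flat.of_linearEquiv eU.toLinearEquiv
  haveI : Module.Flat R' (R' ⊗[R] B) := Module.Flat.of_linearEquiv eV.toLinearEquiv
  haveI : Algebra.FinitePresentation L (L ⊗[R] A) := inferInstance
  haveI : Algebra.FinitePresentation L (L ⊗[R] B) :=
    Algebra.FinitePresentation.equiv (R := L) (A := L ⊗[R] A) (B := L ⊗[R] B) eU.symm
  haveI : Algebra.FinitePresentation R' (R' ⊗[R] B) :=
    Algebra.FinitePresentation.equiv (R := R') (A := R' ⊗[R] A) (B := R' ⊗[R] B) eV.symm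
  letI : Algebra B (R' ⊗[R] B) := Algebra.TensorProduct.rightAlgebra
  letI : Algebra B (L ⊗[R] B) := Algebra.TensorProduct.rightAlgebra
  haveI : Algebra.IsPushout R R' B (R' ⊗[R] B) := TensorProduct.isPushout
  haveI : Algebra.IsPushout R L B (L ⊗[R] B) := TensorProduct.isPushout
  refine ⟨B, inferInstance, inferInstance, BL.flat_of_flat (M := B) h, BL.finitePresentation_descent (A' := R') (g := f) (R' ⊗[R] B) (L ⊗[R] B) h, ?_⟩
  refine exists_equiv_data θ hθ eU eV fun b => ?_
  show θ (incVC f A (ωV (1 ⊗ₜ b))) = incUC f A (ωU (1 ⊗ₜ b))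
  rw [show ωV (1 ⊗ₜ b) = bV b by simp [ωV, ← Algebra.TensorProduct.one_def], show ωU (1 ⊗ₜ b) = bU b by simp [ωU, ← Algebra.TensorProduct.one_def]]
  exact b.2

end

end Groth.Agent.BLTorsor
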