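import Groth.Agent.BLTorsor.Glue
import Groth.Agent.Misc15.AffinePoints

/-!
# Glueing morphisms of affine schemes along a Beauville–Laszlo pair
-/

set_option autoImplicit false
set_option linter.all false

universe u

open CategoryTheory MonoidalCategory CartesianMonoidalCategory AlgebraicGeometry CoactBr
open scoped TensorProduct
open Groth.Agent.Misc15.AffinePoints

namespace Groth.Agent.BLTorsor

noncomputable section

variable {R R' : Type u} [CommRing R] [CommRing R'] [Algebra R R'] (f : R)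

/-- The open part. -/
abbrev objU : Over (Spec (CommRingCat.of R)) := sp R (Localization.Away f)

variable (R') in
/-- The overlap. -/
abbrev objW : Over (Spec (CommRingCat.of R)) := sp R (R' ⊗[R] Localization.Away f)

variable (R') in
/-- The overlap to the open part. -/
abbrev wU : objW R' f ⟶ objU f := pt (incU (R' := R') f)

variable (R') in
/-- The overlap to the complete part. -/
abbrev wV : objW R' f ⟶ sp R R' := pt (incV (R' := R') f)

variable (R') in
/-- Morphisms `T ⟶ Y` are pairs of morphisms on the parts agreeing on the overlap. -/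
def Glues (T Y : Over (Spec (CommRingCat.of R))) : Prop :=
  ∀ (a : objU f ⊗ T ⟶ Y) (b : sp R R' ⊗ T ⟶ Y), wU R' f ▷ T ≫ a = wV R' f ▷ T ≫ b →
    ∃! c : T ⟶ Y, snd (objU f) T ≫ c = a ∧ snd (sp R R') T ≫ c = b

/-- Flat affine objects. -/
def IsFlatAff (T : Over (Spec (CommRingCat.of R))) : Prop :=
  ∃ (C : Type u) (_ : CommRing C) (_ : Algebra R C), Module.Flat R C ∧ Nonempty (sp R C ≅ T)

theorem IsFlatAff.tensor {T T' : Over (Spec (CommRingCat.of R))} (hT : IsFlatAff T) (hT' : IsFlatAff T') :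
    IsFlatAff (T ⊗ T') := by
  obtain ⟨C, _, _, hC, ⟨e⟩⟩ := hT
  obtain ⟨D, _, _, hD, ⟨e'⟩⟩ := hT'
  haveI := isIso_Q (R := R) C D
  exact ⟨C ⊗[R] D, inferInstance, inferInstance, inferInstance, ⟨asIso (Q C D) ≪≫ (e ⊗ᵢ e')⟩⟩

variable {f}

theorem glues_of_iso {T T' Y Y' : Over (Spec (CommRingCat.of R))} (e : T ≅ T') (e' : Y ≅ Y')
    (h : Glues R' f T Y) : Glues R' f T' Y' := by
  intro a b hab
  obtain ⟨c, ⟨hca, hcb⟩, hu⟩ := h (objU f ◁ e.hom ≫ a ≫ e'.inv) (sp R R' ◁ e.hom ≫ b ≫ e'.inv) (by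
    rw [← whisker_exchange_assoc, ← whisker_exchange_assoc, reassoc_of% hab])
  refine ⟨e.inv ≫ c ≫ e'.hom, ⟨?_, ?_⟩, fun d hd => ?_⟩
  · rw [← whiskerLeft_snd_assoc, reassoc_of% hca]
    simp
  · rw [← whiskerLeft_snd_assoc, reassoc_of% hcb]
    simp
  · have := hu (e.hom ≫ d ≫ e'.inv) ⟨by rw [← whiskerLeft_snd_assoc, reassoc_of% hd.1],
      by rw [← whiskerLeft_snd_assoc, reassoc_of% hd.2]⟩
    rw [← this]
    simp

theorem glues_sp (h : EtGlue.IsGlueingPair R R' f) (C B : Type u) [CommRing C] [Algebra R C]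
    [Module.Flat R C] [CommRing B] [Algebra R B] : Glues R' f (sp R C) (sp R B) := by
  intro a b hab
  haveI hQU := isIso_Q (R := R) (Localization.Away f) C
  haveI hQV := isIso_Q (R := R) R' C
  obtain ⟨α, hα⟩ := pt_surjective (Q (Localization.Away f) C ≫ a)
  obtain ⟨β, hβ⟩ := pt_surjective (Q R' C ≫ b)
  have hmap : ∀ {L : Type u} [CommRing L] [Algebra R L] (φ : L →ₐ[R] R' ⊗[R] Localization.Away f),
      pt (Algebra.TensorProduct.map φ (AlgHom.id R C)) ≫ Q L C =
        Q (R' ⊗[R] Localization.Away f) C ≫ (pt φ ▷ sp R C) := fun φ => by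
    rw [pt_map_comp_Q, pt_id, tensorHom_id]
  have e : (incUC f C).comp α = (incVC f C).comp β := by
    refine pt_injective (R := R) (B := B) (K := (R' ⊗[R] Localization.Away f) ⊗[R] C) ?_
    rw [pt_comp, pt_comp, hα, hβ, ← Category.assoc, ← Category.assoc, hmap, hmap, Category.assoc,
      Category.assoc, hab]
  obtain ⟨γ, ⟨h1, h2⟩, hu⟩ := existsUnique_glue_algHom C h α β e
  refine ⟨pt γ, ⟨?_, ?_⟩, fun d hd => ?_⟩
  · rw [← cancel_epi (Q (Localization.Away f) C), ← hα, ← h1, ← Category.assoc, lift_snd, pt_comp]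
  · rw [← cancel_epi (Q R' C), ← hβ, ← h2, ← Category.assoc, lift_snd, pt_comp]
  · obtain ⟨δ, rfl⟩ := pt_surjective d
    congr 1
    refine hu δ ⟨pt_injective ?_, pt_injective ?_⟩
    · rw [pt_comp, hα, ← hd.1, ← Category.assoc, lift_snd]
    · rw [pt_comp, hβ, ← hd.2, ← Category.assoc, lift_snd]

theorem glues (h : EtGlue.IsGlueingPair R R' f) {T Y : Over (Spec (CommRingCat.of R))} (hT : IsFlatAff T)
    (hY : IsAffine Y.left) : Glues R' f T Y := by
  obtain ⟨C, _, _, hC, ⟨e⟩⟩ := hT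
  obtain ⟨B, _, _, ⟨e'⟩⟩ := exists_sp Y
  exact glues_of_iso e e' (glues_sp h C B)

end

end Groth.Agent.BLTorsor
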