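import Groth.Agent.BLTorsor.Factor
import Groth.Agent.NeronLib.TorsorProp
import Groth.Agent.S1127
import Groth.Agent.AlgSpLib.FppfLocal
import Groth.Agent.QuasiAffLib.Basic
import Groth.Agent.HenselLib.BLModule
import Mathlib.AlgebraicGeometry.QuasiAffine

/-!
# Glueing morphisms into quasi-affine schemes along a Beauville–Laszlo pair

`isQuasiAffine_left_of_isTorsorFor`, `glueingPair_of_hyps`, `glues_quasiAffine`.
-/

set_option autoImplicit false
set_option linter.all false
set_option backward.isDefEq.respectTransparency.types false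

universe u

open CategoryTheory Limits MonoidalCategory CartesianMonoidalCategory AlgebraicGeometry CoactBr
open scoped TensorProduct
open Groth.Agent.Misc15.AffinePoints

noncomputable section

namespace Groth.Agent.BLTorsor

/-- Quasi-affine morphisms. -/
def qaProp : MorphismProperty Scheme.{u} := fun _ _ f => Mor2.IsQuasiAffine f

instance qaProp_respectsIso : qaProp.{u}.RespectsIso :=
  MorphismProperty.RespectsIso.mk _
    (fun e g hg => QuasiAffLib.isQuasiAffine_comp _ _
      (QuasiAffLib.isQuasiAffine_of_isEmbedding e.hom e.hom.isOpenEmbedding.toIsEmbedding) hg)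
    (fun e g hg => QuasiAffLib.isQuasiAffine_comp _ _ hg
      (QuasiAffLib.isQuasiAffine_of_isEmbedding e.hom e.hom.isOpenEmbedding.toIsEmbedding))

instance qaProp_baseChange : qaProp.{u}.IsStableUnderBaseChange :=
  MorphismProperty.IsStableUnderBaseChange.mk' fun X Y S f g _ hg => by
    rw [← pullbackSymmetry_hom_comp_snd f g]
    exact (qaProp.cancel_left_of_respectsIso _ _).2 (QuasiAffLib.isQuasiAffine_baseChange g hg f)

theorem qaProp_restrict {X Y : Scheme.{u}} (f : X ⟶ Y) (U : Y.Opens) (hf : qaProp f) : qaProp (f ∣_ U) :=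
  MorphismProperty.of_isPullback (P := qaProp) (isPullback_morphismRestrict f U).flip hf

instance qaProp_local : IsZariskiLocalAtTarget qaProp.{u} :=
  IsZariskiLocalAtTarget.mk' (fun f U hf => qaProp_restrict f U hf) fun {X Y} f {ι} U hU h => by
    refine QuasiAffLib.isQuasiAffine_of_cover f fun y => ?_
    obtain ⟨i, hi⟩ := TopologicalSpace.Opens.mem_iSup.1 (hU.ge (trivial : y ∈ (⊤ : Y.Opens)))
    obtain ⟨_, ⟨V, hV, rfl⟩, hyV, hle⟩ :=
      Y.isBasis_affineOpens.exists_subset_of_mem_open hi (U i).isOpen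
    change IsAffineOpen (X := Y) V at hV
    refine ⟨V, hV, hyV, ?_⟩
    have hVU : IsAffineOpen ((U i).ι ⁻¹ᵁ V) :=
      hV.preimage_of_isOpenImmersion (U i).ι (by rw [Scheme.Opens.opensRange_ι]; exact hle)
    haveI := (h i).2 _ hVU
    have hle' : f ⁻¹ᵁ V ≤ (f ⁻¹ᵁ U i).ι.opensRange := by
      rw [Scheme.Opens.opensRange_ι]; exact f.preimage_mono hle
    have e : (f ∣_ U i) ⁻¹ᵁ ((U i).ι ⁻¹ᵁ V) = (f ⁻¹ᵁ U i).ι ⁻¹ᵁ (f ⁻¹ᵁ V) := by
      rw [← Scheme.Hom.comp_preimage, morphismRestrict_ι, Scheme.Hom.comp_preimage]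
    rw [e] at this
    exact Scheme.IsQuasiAffine.of_isAffineHom
      ((Scheme.Hom.isoImage (f ⁻¹ᵁ U i).ι ((f ⁻¹ᵁ U i).ι ⁻¹ᵁ (f ⁻¹ᵁ V))) ≪≫
        (X.isoOfEq ((Scheme.Hom.image_preimage_eq_opensRange_inf _ _).trans (inf_eq_right.2 hle')))).inv

variable {S : Scheme.{u}} [IsAffine S] {G X : Over S} [GrpObj G]

/-- Torsors under quasi-affine groups over affine bases are quasi-affine. -/
theorem isQuasiAffine_left_of_isTorsorFor [G.left.IsQuasiAffine] {a : AlgGrp.Action G X}
    (ha : NonAbH1.IsTorsorFor Scheme.fppfPrecoverage a) : X.left.IsQuasiAffine := by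
  have hG : qaProp G.hom := QuasiAffLib.isQuasiAffine_of_cover _ fun y =>
    ⟨⊤, isAffineOpen_top S, trivial,
      Scheme.IsQuasiAffine.of_isAffineHom
        ((G.left.isoOfEq (show G.hom ⁻¹ᵁ ⊤ = (⊤ : G.left.Opens) from rfl)).hom ≫ G.left.topIso.hom)⟩
  haveI : qaProp.{u}.DescendsAlong Et18.FPQC.{u} := S1127.result
  haveI : MorphismProperty.IsLocalAtTarget qaProp.{u} Scheme.fppfPrecoverage := AlgSpLib.isLocalAtTarget_fppf _
  have hX : qaProp X.hom := by
    obtain ⟨hp, R, hR, hsec⟩ := ha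
    refine MorphismProperty.IsLocalAtTarget.of_forall_pullbackSnd hR fun {U g} _ hg => ?_
    obtain ⟨s, hs⟩ := hsec g hg
    let T : Over S := Over.mk g
    obtain ⟨e, he⟩ := NeronLib.Formal.exists_iso_tensor hp (Over.homMk s hs : T ⟶ X)
    have h1 : qaProp (snd G T).left := qaProp.pullback_snd _ _ hG
    have h2 : qaProp (e.hom.left ≫ (snd X T).left) := by rw [← Over.comp_left, he]; exact h1
    exact (qaProp.cancel_left_of_respectsIso ((Over.forget S).mapIso e).hom _).1 h2
  haveI := hX.2 ⊤ (isAffineOpen_top S)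
  exact Scheme.IsQuasiAffine.of_isAffineHom
    ((X.left.topIso).inv ≫ (X.left.isoOfEq (show (⊤ : X.left.Opens) = X.hom ⁻¹ᵁ ⊤ from rfl)).hom)

variable {R R' : Type u} [CommRing R] [CommRing R'] [Algebra R R'] {f : R}

theorem quotientMap_congr {I J : Ideal R} (e : I = J)
    (h : Function.Bijective (Ideal.quotientMap (Ideal.map (algebraMap R R') I) (algebraMap R R') Ideal.le_comap_map)) :
    Function.Bijective (Ideal.quotientMap (Ideal.map (algebraMap R R') J) (algebraMap R R') Ideal.le_comap_map) := by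
  subst e; exact h

/-- The two hypotheses of the glueing set-up give a glueing pair. -/
theorem glueingPair_of_hyps
    (hq : ∀ m : ℕ, Function.Bijective (Ideal.quotientMap (Ideal.map (algebraMap R R') (Ideal.span {f} ^ m))
      (algebraMap R R') Ideal.le_comap_map))
    (htor : ∀ a' : R', (∃ m : ℕ, algebraMap R R' f ^ m * a' = 0) →
      ∃! a : R, (∃ m : ℕ, f ^ m * a = 0) ∧ algebraMap R R' a = a') :
    EtGlue.IsGlueingPair R R' f := by
  refine HenselLib.BL.isGlueingPair_of (fun n _ => ?_) (fun r hr hr0 => ?_) (fun x hx => ?_)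
  · exact quotientMap_congr (Ideal.span_singleton_pow f n) (hq n)
  · obtain ⟨a, -, hu⟩ := htor 0 ⟨0, by simp⟩
    obtain ⟨m, hm⟩ := hr
    exact (hu r ⟨⟨m, by simpa using hm⟩, hr0⟩).trans (hu 0 ⟨⟨0, by simp⟩, map_zero _⟩).symm
  · obtain ⟨m, hm⟩ := hx
    obtain ⟨a, ⟨⟨k, hk⟩, ha⟩, -⟩ := htor x ⟨m, by simpa [Algebra.smul_def] using hm⟩
    exact ⟨a, ⟨k, by simpa using hk⟩, ha⟩

/-- Every prime of the base lies in the open part or below the complete part. -/
theorem exists_over (h : EtGlue.IsGlueingPair R R' f) (p : Spec (CommRingCat.of R)) :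
    p ∈ Set.range (objU f).hom ∨ p ∈ Set.range (sp R R').hom := by
  by_cases hf : f ∈ p.asIdeal
  · refine Or.inr ?_
    have hb : Function.Bijective (Ideal.quotientMap (Ideal.map (algebraMap R R') (Ideal.span {f}))
        (algebraMap R R') Ideal.le_comap_map) :=
      quotientMap_congr (by rw [pow_one]) (h.1 1 Nat.one_pos)
    let e := RingEquiv.ofBijective _ hb
    have hle : Ideal.span {f} ≤ p.asIdeal := (Ideal.span_singleton_le_iff_mem _).2 hf
    let χ : R' →+* R ⧸ p.asIdeal :=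
      ((Ideal.Quotient.factor hle).comp e.symm.toRingHom).comp (Ideal.Quotient.mk _)
    have hχ : ∀ r, χ (algebraMap R R' r) = Ideal.Quotient.mk _ r := fun r => by
      have : e.symm (Ideal.Quotient.mk _ (algebraMap R R' r)) = Ideal.Quotient.mk _ r := by
        rw [RingEquiv.symm_apply_eq]; rfl
      show Ideal.Quotient.factor hle (e.symm (Ideal.Quotient.mk _ (algebraMap R R' r))) = _
      rw [this]
      rfl
    refine ⟨⟨RingHom.ker χ, RingHom.ker_isPrime χ⟩, PrimeSpectrum.ext (Ideal.ext fun r => ?_)⟩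
    show χ (algebraMap R R' r) = 0 ↔ _
    rw [hχ, Ideal.Quotient.eq_zero_iff_mem]
  · exact Or.inl ((PrimeSpectrum.localization_away_comap_range (Localization.Away f) f).ge hf)

theorem isFlatAff_of_isAffine {T : Over (Spec (CommRingCat.of R))} [IsAffine T.left] [Flat T.hom] : IsFlatAff T := by
  obtain ⟨A, _, _, ⟨e⟩⟩ := exists_sp T
  refine ⟨A, inferInstance, inferInstance, flat_of_flat_hom ?_, ⟨e⟩⟩
  rw [← Over.w e.hom]
  have : IsIso e.hom.left := ((Over.forget _).mapIso e).isIso_hom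
  infer_instance

theorem whisker_eq_of_glues {T T' Y Y' : Over (Spec (CommRingCat.of R))} (k : T' ⟶ T) (i : Y ⟶ Y')
    {a : objU f ⊗ T ⟶ Y} {b : sp R R' ⊗ T ⟶ Y} (hab : wU R' f ▷ T ≫ a = wV R' f ▷ T ≫ b) :
    wU R' f ▷ T' ≫ (objU f ◁ k ≫ a ≫ i) = wV R' f ▷ T' ≫ (sp R R' ◁ k ≫ b ≫ i) := by
  rw [← whisker_exchange_assoc, ← whisker_exchange_assoc, reassoc_of% hab]

/-- Morphisms from a flat scheme into a quasi-affine scheme glue. -/
theorem glues_quasiAffine (h : EtGlue.IsGlueingPair R R' f) {T Y : Over (Spec (CommRingCat.of R))}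
    [Flat T.hom] [Y.left.IsQuasiAffine] : Glues R' f T Y := by
  let Ybar : Over (Spec (CommRingCat.of R)) :=
    Over.mk (Spec.map Y.hom.appTop ≫ (Spec (CommRingCat.of R)).isoSpec.inv)
  let i : Y ⟶ Ybar := Over.homMk Y.left.toSpecΓ (by
    show Y.left.toSpecΓ ≫ Spec.map Y.hom.appTop ≫ _ = Y.hom
    rw [← Scheme.toSpecΓ_naturality_assoc]
    simp)
  haveI : IsAffine Ybar.left := inferInstanceAs (IsAffine (Spec _))
  have hi : ∀ {Z : Over (Spec (CommRingCat.of R))} (u v : Z ⟶ Y), u ≫ i = v ≫ i → u = v := fun u v e => by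
    ext1
    rw [← cancel_mono Y.left.toSpecΓ]
    exact congrArg CommaMorphism.left e
  have huniq : ∀ {T' : Over (Spec (CommRingCat.of R))} [Flat T'.hom] (c d : T' ⟶ Y),
      snd (objU f) T' ≫ c = snd (objU f) T' ≫ d → snd (sp R R') T' ≫ c = snd (sp R R') T' ≫ d → c = d := by
    intro T' _ c d hU hV
    ext1
    refine T'.left.affineCover.hom_ext _ _ fun n => ?_
    let T'' : Over (Spec (CommRingCat.of R)) := Over.mk (T'.left.affineCover.f n ≫ T'.hom)
    let k : T'' ⟶ T' := Over.homMk (T'.left.affineCover.f n) rfl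
    haveI : IsAffine T''.left := inferInstanceAs (IsAffine (T'.left.affineCover.X n))
    haveI : Flat T''.hom := MorphismProperty.comp_mem @Flat _ _ inferInstance ‹_›
    have : k ≫ c = k ≫ d := by
      refine hi _ _ ?_
      have eU : snd (objU f) T'' ≫ k ≫ d = snd (objU f) T'' ≫ k ≫ c := by
        rw [← Category.assoc, ← Category.assoc, ← whiskerLeft_snd, Category.assoc, Category.assoc, hU]
      have eV : snd (sp R R') T'' ≫ k ≫ d = snd (sp R R') T'' ≫ k ≫ c := by
        rw [← Category.assoc, ← Category.assoc, ← whiskerLeft_snd, Category.assoc, Category.assoc, hV]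
      refine (glues h isFlatAff_of_isAffine ‹_› (snd (objU f) T'' ≫ k ≫ c ≫ i) (snd (sp R R') T'' ≫ k ≫ c ≫ i)
        (by rw [whiskerRight_snd_assoc, whiskerRight_snd_assoc])).unique ⟨by simp, by simp⟩ ⟨?_, ?_⟩
      · simpa only [Category.assoc] using eU =≫ i
      · simpa only [Category.assoc] using eV =≫ i
    exact congrArg CommaMorphism.left this
  intro a b hab
  let 𝒰 := T.left.affineCover
  let TW : 𝒰.I₀ → Over (Spec (CommRingCat.of R)) := fun n => Over.mk (𝒰.f n ≫ T.hom)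
  let j : ∀ n, TW n ⟶ T := fun n => Over.homMk (𝒰.f n) rfl
  haveI this_flat : ∀ n, Flat (TW n).hom := fun n => MorphismProperty.comp_mem @Flat _ _ inferInstance ‹_›
  haveI : ∀ n, IsAffine (TW n).left := fun n => inferInstanceAs (IsAffine (𝒰.X n))
  have hc : ∀ n, ∃ c : TW n ⟶ Y, snd (objU f) (TW n) ≫ c = objU f ◁ j n ≫ a ∧
      snd (sp R R') (TW n) ≫ c = sp R R' ◁ j n ≫ b := by
    intro n
    obtain ⟨c, ⟨hcU, hcV⟩, -⟩ := glues h (T := TW n) isFlatAff_of_isAffine ‹IsAffine Ybar.left›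
      (objU f ◁ j n ≫ a ≫ i) (sp R R' ◁ j n ≫ b ≫ i) (whisker_eq_of_glues (j n) i hab)
    have hran : Set.range c.left ⊆ Set.range Y.left.toSpecΓ := by
      rintro _ ⟨x, rfl⟩
      rcases exists_over h ((TW n).hom x) with ⟨s, hs⟩ | ⟨s, hs⟩
      · obtain ⟨z, -, hz⟩ := Scheme.Pullback.exists_preimage_pullback s x hs
        refine ⟨(objU f ◁ j n ≫ a).left z, ?_⟩
        show _ = c.left x
        rw [← hz, ← Scheme.Hom.comp_apply, ← Scheme.Hom.comp_apply]
        exact congrArg (fun t => t.left z) hcU.symm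
      · obtain ⟨z, -, hz⟩ := Scheme.Pullback.exists_preimage_pullback s x hs
        refine ⟨(sp R R' ◁ j n ≫ b).left z, ?_⟩
        show _ = c.left x
        rw [← hz, ← Scheme.Hom.comp_apply, ← Scheme.Hom.comp_apply]
        exact congrArg (fun t => t.left z) hcV.symm
    let c₀ : (TW n).left ⟶ Y.left := IsOpenImmersion.lift Y.left.toSpecΓ c.left hran
    have hc₀ : c₀ ≫ Y.left.toSpecΓ = c.left := IsOpenImmersion.lift_fac _ _ _
    let c' : TW n ⟶ Y := Over.homMk c₀ (by
      have hw : Y.hom = Y.left.toSpecΓ ≫ Ybar.hom := (Over.w i).symm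
      rw [hw, reassoc_of% hc₀]
      exact Over.w c)
    have hc' : c' ≫ i = c := by ext1; exact hc₀
    exact ⟨c', hi _ _ (by rw [Category.assoc, hc', hcU, Category.assoc]),
      hi _ _ (by rw [Category.assoc, hc', hcV, Category.assoc])⟩
  choose c hcU hcV using hc
  have hcomp : ∀ n m, pullback.fst (𝒰.f n) (𝒰.f m) ≫ (c n).left = pullback.snd _ _ ≫ (c m).left := by
    intro n m
    let T'' : Over (Spec (CommRingCat.of R)) := Over.mk (pullback.fst (𝒰.f n) (𝒰.f m) ≫ 𝒰.f n ≫ T.hom)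
    let kn : T'' ⟶ TW n := Over.homMk (pullback.fst _ _) rfl
    let km : T'' ⟶ TW m := Over.homMk (pullback.snd _ _) (pullback.condition_assoc _).symm
    haveI : Flat T''.hom := MorphismProperty.comp_mem @Flat _ _ inferInstance (this_flat n)
    have hk : kn ≫ j n = km ≫ j m := by ext1; exact pullback.condition
    refine congrArg CommaMorphism.left (huniq (kn ≫ c n) (km ≫ c m) ?_ ?_)
    · rw [← whiskerLeft_snd_assoc, ← whiskerLeft_snd_assoc, hcU, hcU, ← MonoidalCategory.whiskerLeft_comp_assoc,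
        ← MonoidalCategory.whiskerLeft_comp_assoc, hk]
    · rw [← whiskerLeft_snd_assoc, ← whiskerLeft_snd_assoc, hcV, hcV, ← MonoidalCategory.whiskerLeft_comp_assoc,
        ← MonoidalCategory.whiskerLeft_comp_assoc, hk]
  let c₁ : T ⟶ Y := Over.homMk (𝒰.glueMorphisms (fun n => (c n).left) hcomp)
    (𝒰.hom_ext _ _ fun n => by rw [Scheme.Cover.ι_glueMorphisms_assoc]; exact Over.w (c n))
  have hj : ∀ n, j n ≫ c₁ = c n := fun n => by ext1; exact Scheme.Cover.ι_glueMorphisms _ _ _ _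
  have key : ∀ (A : Over (Spec (CommRingCat.of R))) (α : A ⊗ T ⟶ Y), (∀ n, snd A (TW n) ≫ c n = A ◁ j n ≫ α) →
      snd A T ≫ c₁ = α := by
    intro A α hα
    ext1
    refine Scheme.Cover.hom_ext ((T.left.affineCover).pullback₁ (snd A T).left) _ _ fun n => ?_
    let Z : Over (Spec (CommRingCat.of R)) := Over.mk (pullback.fst (snd A T).left (𝒰.f n) ≫ (A ⊗ T).hom)
    let z₁ : Z ⟶ A ⊗ T := Over.homMk (pullback.fst _ _) rfl
    let z₂ : Z ⟶ TW n := Over.homMk (pullback.snd _ _) (by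
      show pullback.snd (snd A T).left (𝒰.f n) ≫ 𝒰.f n ≫ T.hom = _
      rw [← pullback.condition_assoc, Over.w (snd A T)]
      rfl)
    have hz : z₁ ≫ snd A T = z₂ ≫ j n := by ext1; exact pullback.condition
    have e : z₁ ≫ snd A T ≫ c₁ = z₁ ≫ α := by
      have e1 : z₁ = lift (z₁ ≫ fst A T) z₂ ≫ A ◁ j n := by
        refine CartesianMonoidalCategory.hom_ext _ _ ?_ ?_ <;> simp [hz]
      rw [reassoc_of% hz, hj]
      conv_rhs => rw [e1, Category.assoc, ← hα, lift_snd_assoc]
    exact congrArg CommaMorphism.left e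
  refine ⟨c₁, ⟨key _ a hcU, key _ b hcV⟩, fun d hd => ?_⟩
  exact huniq d c₁ (hd.1.trans (key _ a hcU).symm) (hd.2.trans (key _ b hcV).symm)

end Groth.Agent.BLTorsor

end
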