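import Groth.Agent.BLTorsor.QuasiAffine
import Groth.Agent.TorsorDed.Main

/-!
# Glueing isomorphisms of torsors along a Beauville–Laszlo pair

`existsUnique_equivIso`: compatible equivariant isomorphisms on the two parts come from a unique one.
-/

set_option autoImplicit false
set_option linter.all false
set_option backward.isDefEq.respectTransparency.types false

universe u

open CategoryTheory Limits MonoidalCategory CartesianMonoidalCategory AlgebraicGeometry CoactBr
open Groth.Agent.TorsorDed NonAbLib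

noncomputable section

namespace Groth.Agent.BLTorsor

variable {R R' : Type u} [CommRing R] [CommRing R'] [Algebra R R'] {f : R}

theorem equivIso_ext {S : Scheme.{u}} {G X X' : Over S} [GrpObj G] {a : AlgGrp.Action G X} {a' : AlgGrp.Action G X'}
    {α β : NonAbH1.EquivIso a a'} (h : α.iso.hom = β.iso.hom) : α = β := by
  obtain ⟨i, hi⟩ := α
  obtain ⟨j, hj⟩ := β
  congr
  exact Iso.ext h

/-- A morphism inducing `φ` on a part is computed by `push`. -/
theorem push_map {S S' : Scheme.{u}} (g : S' ⟶ S) {X X' : Over S} (c : X ⟶ X') {W : Over S} (w : W.left ⟶ S')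
    (hw : w ≫ g = W.hom) (p : W ⟶ X) : push ((Over.pullback g).map c) w hw p = p ≫ c := by
  ext1
  show (tr g w hw p ≫ (Over.pullback g).map c).left ≫ pullback.fst X'.hom g = p.left ≫ c.left
  rw [tr_map, tr_fst, Over.comp_left]

/-- If `push` of a morphism of base changes is given by `c`, the morphism is the base change of `c`. -/
theorem eq_map_of_push {S S' : Scheme.{u}} (g : S' ⟶ S) {X X' : Over S}
    (φ : (Over.pullback g).obj X ⟶ (Over.pullback g).obj X') (c : X ⟶ X')
    (h : ∀ (W : Over S) (w : W.left ⟶ S') (hw : w ≫ g = W.hom) (p : W ⟶ X), p ≫ c = push φ w hw p) :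
    (Over.pullback g).map c = φ := by
  let W : Over S := Over.mk (pullback.snd X.hom g ≫ g)
  let p : W ⟶ X := Over.homMk (pullback.fst X.hom g) pullback.condition
  have e := congrArg CommaMorphism.left (h W (pullback.snd X.hom g) rfl p)
  have e' : (tr g (W := W) (pullback.snd X.hom g) rfl p).left = 𝟙 _ :=
    pullback.hom_ext (by rw [tr_fst, Category.id_comp]; rfl) ((pullback.lift_snd _ _ _).trans (Category.id_comp _).symm)
  ext1
  refine pullback.hom_ext ?_ ((Over.w ((Over.pullback g).map c)).trans (Over.w φ).symm)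
  rw [map_fst]
  refine Eq.trans e ?_
  show ((tr g (W := W) (pullback.snd X.hom g) rfl p).left ≫ φ.left) ≫ _ = _
  rw [e', Category.id_comp]

/-- Agreement after base change to `D` gives agreement of `push` on points over `D`. -/
theorem push_eq_of_bc_agree {S SU SV D : Scheme.{u}} (gU : SU ⟶ S) (gV : SV ⟶ S) (iU : D ⟶ SU) (iV : D ⟶ SV)
    (h : iU ≫ gU = iV ≫ gV) {X X' : Over S}
    (φU : (Over.pullback gU).obj X ⟶ (Over.pullback gU).obj X')
    (φV : (Over.pullback gV).obj X ⟶ (Over.pullback gV).obj X')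
    (hag : (Over.pullback iU).map φU ≫ (ActBC.bcCompIso iU gU X' h).hom =
      (ActBC.bcCompIso iU gU X h).hom ≫ (ActBC.bcCompIso iV gV X rfl).inv ≫
        (Over.pullback iV).map φV ≫ (ActBC.bcCompIso iV gV X' rfl).hom)
    {W : Over S} (z : W.left ⟶ D) (wU : W.left ⟶ SU) (hwU : wU ≫ gU = W.hom) (wV : W.left ⟶ SV)
    (hwV : wV ≫ gV = W.hom) (hU : z ≫ iU = wU) (hV : z ≫ iV = wV) (p : W ⟶ X) :
    push φU wU hwU p = push φV wV hwV p := by
  let zU : W.left ⟶ ((Over.pullback iU).obj ((Over.pullback gU).obj X)).left :=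
    pullback.lift (tr gU wU hwU p).left z ((Over.w (tr gU wU hwU p)).trans hU.symm)
  let zV : W.left ⟶ ((Over.pullback iV).obj ((Over.pullback gV).obj X)).left :=
    pullback.lift (tr gV wV hwV p).left z ((Over.w (tr gV wV hwV p)).trans hV.symm)
  have hzU : zU ≫ pullback.fst _ iU = (tr gU wU hwU p).left := pullback.lift_fst _ _ _
  have hzV : zV ≫ pullback.fst _ iV = (tr gV wV hwV p).left := pullback.lift_fst _ _ _
  have hinv : ∀ w : W.left ⟶ _, (w ≫ (ActBC.bcCompIso iV gV X rfl).hom.left) ≫ (ActBC.bcCompIso iV gV X rfl).inv.left = w := by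
    intro w
    rw [Category.assoc, ← Over.comp_left, Iso.hom_inv_id]
    exact Category.comp_id w
  have hzz : zU ≫ (ActBC.bcCompIso iU gU X h).hom.left ≫ (ActBC.bcCompIso iV gV X rfl).inv.left = zV := by
    rw [← Category.assoc]
    refine Eq.trans (congrArg (· ≫ _) ?_) (hinv _)
    apply pullback.hom_ext
    · rw [Category.assoc, Category.assoc, ActBC.bcCompIso_hom_left_fst, ActBC.bcCompIso_hom_left_fst]
      exact ((reassoc_of% hzU) _).trans ((tr_fst gU wU hwU p).trans
        ((tr_fst gV wV hwV p).symm.trans ((reassoc_of% hzV) _).symm))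
    · rw [Category.assoc, Category.assoc, ActBC.bcCompIso_hom_left_snd, ActBC.bcCompIso_hom_left_snd]
      exact (pullback.lift_snd _ _ _).trans (pullback.lift_snd _ _ _).symm
  have e := congrArg (fun m => zU ≫ m.left ≫ pullback.fst X'.hom (iV ≫ gV)) hag
  simp only [Over.comp_left, Category.assoc, ActBC.bcCompIso_hom_left_fst, ActBC.pullback_map_left_fst_assoc] at e
  rw [reassoc_of% hzU, reassoc_of% hzz, reassoc_of% hzV] at e
  ext1
  exact e

variable (f) in
/-- Compatibility of two morphisms of base changes on the overlap. -/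
def Agree {X X' : Over (Spec (CommRingCat.of R))} (φU : (Over.pullback (objU f).hom).obj X ⟶ (Over.pullback (objU f).hom).obj X')
    (φV : (Over.pullback (sp R R').hom).obj X ⟶ (Over.pullback (sp R R').hom).obj X') : Prop :=
  push φU (fst (objW R' f) X ≫ wU R' f).left (Over.w _) (snd (objW R' f) X) =
    push φV (fst (objW R' f) X ≫ wV R' f).left (Over.w _) (snd (objW R' f) X)

/-- Equivariant isomorphisms of torsors glue uniquely. -/
theorem existsUnique_equivIso (h : EtGlue.IsGlueingPair R R' f) {G : Over (Spec (CommRingCat.of R))} [GrpObj G]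
    [Flat G.hom] [G.left.IsQuasiAffine] (P P' : NonAbH1.TorsorSch G Scheme.fppfPrecoverage)
    (αU : NonAbH1.EquivIso (P.act.bc (objU f).hom) (P'.act.bc (objU f).hom))
    (α' : NonAbH1.EquivIso (P.act.bc (sp R R').hom) (P'.act.bc (sp R R').hom))
    (hagree : Agree f αU.iso.hom α'.iso.hom) :
    ∃! α : NonAbH1.EquivIso P.act P'.act,
      (NonAbH1.EquivIso.bc (objU f).hom α).iso = αU.iso ∧ (NonAbH1.EquivIso.bc (sp R R').hom α).iso = α'.iso := by
  haveI : Flat P.X.hom := NeronLib.Formal.prop_of_torsor P.isTorsor @Flat ‹_›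
  haveI : P'.X.left.IsQuasiAffine := isQuasiAffine_left_of_isTorsorFor P'.isTorsor
  let a := push αU.iso.hom (fst (objU f) P.X).left (Over.w _) (snd _ _)
  let b := push α'.iso.hom (fst (sp R R') P.X).left (Over.w _) (snd _ _)
  have hab : wU R' f ▷ P.X ≫ a = wV R' f ▷ P.X ≫ b := by
    have eU := push_comp (objU f).hom αU.iso.hom (fst (objW R' f) P.X ≫ wU R' f).left (Over.w _) _
      (Over.w (fst (objU f) P.X)) (wU R' f ▷ P.X) (by rw [← Over.comp_left, whiskerRight_fst]) (snd _ _)
    have eV := push_comp (sp R R').hom α'.iso.hom (fst (objW R' f) P.X ≫ wV R' f).left (Over.w _) _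
      (Over.w (fst (sp R R') P.X)) (wV R' f ▷ P.X) (by rw [← Over.comp_left, whiskerRight_fst]) (snd _ _)
    rw [whiskerRight_snd] at eU eV
    rw [← eU, ← eV]
    exact hagree
  obtain ⟨c, ⟨hcU, hcV⟩, hcu⟩ := glues_quasiAffine h (T := P.X) (Y := P'.X) a b hab
  have hU : ∀ (W : Over (Spec (CommRingCat.of R))) (w : W.left ⟶ (objU f).left) (hw : w ≫ (objU f).hom = W.hom)
      (p : W ⟶ P.X), p ≫ c = push αU.iso.hom w hw p := fun W w hw p => by
    have e := push_comp (objU f).hom αU.iso.hom w hw _ (Over.w (fst (objU f) P.X))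
      (lift (Over.homMk w hw) p) (by rw [← Over.comp_left, lift_fst]; rfl) (snd _ _)
    rw [lift_snd] at e
    rw [e, ← lift_snd (Over.homMk w hw) p, Category.assoc, hcU, lift_snd]
  have hV : ∀ (W : Over (Spec (CommRingCat.of R))) (w : W.left ⟶ (sp R R').left) (hw : w ≫ (sp R R').hom = W.hom)
      (p : W ⟶ P.X), p ≫ c = push α'.iso.hom w hw p := fun W w hw p => by
    have e := push_comp (sp R R').hom α'.iso.hom w hw _ (Over.w (fst (sp R R') P.X))
      (lift (Over.homMk w hw) p) (by rw [← Over.comp_left, lift_fst]; rfl) (snd _ _)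
    rw [lift_snd] at e
    rw [e, ← lift_snd (Over.homMk w hw) p, Category.assoc, hcV, lift_snd]
  have hequiv : P.act.act ≫ c = (G ◁ c) ≫ P'.act.act := by
    have key : ∀ {L : Over (Spec (CommRingCat.of R))}
        (φ : NonAbH1.EquivIso (P.act.bc L.hom) (P'.act.bc L.hom))
        (_ : ∀ (W : Over (Spec (CommRingCat.of R))) (w : W.left ⟶ L.left) (hw : w ≫ L.hom = W.hom) (p : W ⟶ P.X),
          p ≫ c = push φ.iso.hom w hw p),
        snd L (G ⊗ P.X) ≫ P.act.act ≫ c = snd L (G ⊗ P.X) ≫ (G ◁ c) ≫ P'.act.act := by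
      intro L φ hφ
      have e1 : snd L (G ⊗ P.X) ≫ P.act.act =
          actPt P.act (snd L _ ≫ fst G P.X) (snd L _ ≫ snd G P.X) := by
        rw [actPt, ← comp_lift, lift_fst_snd, Category.comp_id]
      have e2 : snd L (G ⊗ P.X) ≫ (G ◁ c) ≫ P'.act.act =
          actPt P'.act (snd L _ ≫ fst G P.X) ((snd L _ ≫ snd G P.X) ≫ c) := by
        rw [actPt, ← Category.assoc]
        congr 1
        refine CartesianMonoidalCategory.hom_ext _ _ ?_ ?_ <;> simp
      rw [← Category.assoc, e1, e2, hφ _ (fst L _).left (Over.w _) (actPt P.act _ _),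
        hφ _ (fst L _).left (Over.w _) (snd L _ ≫ snd G P.X), push_actPt]
    exact (glues_quasiAffine h (T := G ⊗ P.X) (Y := P'.X) (snd (objU f) _ ≫ P.act.act ≫ c)
      (snd (sp R R') _ ≫ P.act.act ≫ c) (by rw [whiskerRight_snd_assoc, whiskerRight_snd_assoc])).unique
      ⟨rfl, rfl⟩ ⟨(key αU hU).symm, (key α' hV).symm⟩
  haveI := isIso_of_equivariant (fppf_isTorsorFor_fpqc P.isTorsor) P'.isTorsor.1 c hequiv
  refine ⟨⟨asIso c, hequiv⟩, ⟨Iso.ext ?_, Iso.ext ?_⟩, fun β hβ => equivIso_ext ?_⟩
  · exact eq_map_of_push _ _ c hU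
  · exact eq_map_of_push _ _ c hV
  · refine hcu β.iso.hom ⟨?_, ?_⟩
    · have e : (Over.pullback (objU f).hom).map β.iso.hom = αU.iso.hom := congrArg Iso.hom hβ.1
      exact (push_map _ β.iso.hom _ (Over.w (fst (objU f) P.X)) (snd _ _)).symm.trans (by rw [e])
    · have e : (Over.pullback (sp R R').hom).map β.iso.hom = α'.iso.hom := congrArg Iso.hom hβ.2
      exact (push_map _ β.iso.hom _ (Over.w (fst (sp R R') P.X)) (snd _ _)).symm.trans (by rw [e])

end Groth.Agent.BLTorsor

end
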